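import Cfsg.Agent.Zassenhaus.SymplecticType
import Mathlib.Data.Finset.Powerset
import Mathlib.Data.Fintype.CardEmbedding
import Mathlib.Combinatorics.Enumerative.DoubleCounting
import Mathlib.GroupTheory.GroupAction.Quotient

/-!
An elementary abelian group of order `2^11` with a point `d`, 22 further points and a transitive set of
conjugates of `d`: there are exactly 23 of them unless an invariant complement to `d` exists.
-/

set_option autoImplicit false
set_option linter.unusedSectionVars false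
set_option linter.style.haveILetI false

namespace CfsgLib.DoubleM22

/-- An elementary group of order `2^11` over 22 points with a transitive set of points. -/
structure Config (ι V W : Type*) [CommGroup V] [CommGroup W] where
  /-- The orbit. -/
  Ω : Set V
  /-- The acting group. -/
  R : Subgroup (MulAut V)
  /-- The base point. -/
  d : V
  /-- The map forgetting the base point. -/
  ψ : V →* W
  /-- The 22 points. -/
  k : ι → V
  card_pts : Nat.card ι = 22
  card_space : Nat.card V = 2 ^ 11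
  sq : ∀ v : V, v * v = 1
  d_ne : d ≠ 1
  ker_iff : ∀ v, ψ v = 1 ↔ v = 1 ∨ v = d
  ne_one : ∀ s : Finset ι, 1 ≤ s.card → s.card ≤ 3 → ψ (∏ i ∈ s, k i) ≠ 1
  cls : ∀ v, ψ v ≠ 1 → ∃ s : Finset ι, 1 ≤ s.card ∧ s.card ≤ 3 ∧ ψ (∏ i ∈ s, k i) = ψ v
  short : ∀ s t : Finset ι, 1 ≤ s.card → s.card ≤ 2 → 1 ≤ t.card → t.card ≤ 3 →
    ψ (∏ i ∈ s, k i) = ψ (∏ i ∈ t, k i) → s = t
  mate : ∀ s : Finset ι, s.card = 3 → ∃ t : Finset ι, t.card = 3 ∧ t ≠ s ∧ ψ (∏ i ∈ t, k i) = ψ (∏ i ∈ s, k i)
  mate_unique : ∀ s t t' : Finset ι, s.card = 3 → t.card = 3 → t'.card = 3 →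
    ψ (∏ i ∈ t, k i) = ψ (∏ i ∈ s, k i) → ψ (∏ i ∈ t', k i) = ψ (∏ i ∈ s, k i) → t ≠ s → t' ≠ s → t = t'
  d_mem : d ∈ Ω
  one_notMem : (1 : V) ∉ Ω
  invariant : ∀ r ∈ R, ∀ v ∈ Ω, r v ∈ Ω
  trans : ∀ v ∈ Ω, ∃ r ∈ R, r d = v
  move : ∀ a b c a' b' c' : ι, a ≠ b → a ≠ c → b ≠ c → a' ≠ b' → a' ≠ c' → b' ≠ c' →
    ∃ r ∈ R, r d = d ∧ r (k a) = k a' ∧ r (k b) = k b' ∧ r (k c) = k c'
  stab : ∀ r ∈ R, r d = d → ∀ i, ∃ j, r (k i) = k j

namespace Config

variable {ι V W : Type*} [CommGroup V] [CommGroup W] [Finite ι] [Finite V] (P : Config ι V W)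

include P

theorem psi_d : P.ψ P.d = 1 := (P.ker_iff _).2 (Or.inr rfl)

theorem psi_dmul (v : V) : P.ψ (P.d * v) = P.ψ v := by rw [map_mul, P.psi_d, one_mul]

theorem d_cancel (v : V) : P.d * (P.d * v) = v := by rw [← mul_assoc, P.sq, one_mul]

theorem d_mul_ne (v : V) : P.d * v ≠ v := fun e => P.d_ne (mul_eq_right.1 e)

theorem mul_cancel_self (u v : V) : u * (u * v) = v := by rw [← mul_assoc, P.sq, one_mul]

theorem lifts {v w : V} (h : P.ψ v = P.ψ w) : v = w ∨ v = P.d * w := by
  rcases (P.ker_iff (v * w⁻¹)).1 (by rw [map_mul, map_inv, h, mul_inv_cancel]) with e | e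
  · exact Or.inl (mul_inv_eq_one.1 e)
  · exact Or.inr (mul_inv_eq_iff_eq_mul.1 e)

theorem psi_k_inj {i j : ι} (h : P.ψ (P.k i) = P.ψ (P.k j)) : i = j :=
  Finset.singleton_injective (P.short {i} {j} (by simp) (by simp) (by simp) (by simp) (by simpa using h))

theorem k_inj {i j : ι} (h : P.k i = P.k j) : i = j := P.psi_k_inj (congrArg P.ψ h)

theorem psi_k_ne_one (i : ι) : P.ψ (P.k i) ≠ 1 := by
  simpa using P.ne_one {i} (by simp) (by simp)

theorem k_ne_d (i : ι) : P.k i ≠ P.d := fun e => P.psi_k_ne_one i (by rw [e, P.psi_d])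

theorem psi_pair_inj {i j p q : ι} (hij : i ≠ j) (hpq : p ≠ q)
    (h : P.ψ (P.k i * P.k j) = P.ψ (P.k p * P.k q)) : (i = p ∧ j = q) ∨ (i = q ∧ j = p) := by
  classical
  have e := P.short {i, j} {p, q} (by rw [Finset.card_pair hij]; norm_num) (by rw [Finset.card_pair hij])
    (by rw [Finset.card_pair hpq]; norm_num) (by rw [Finset.card_pair hpq]; norm_num)
    (by rw [Finset.prod_pair hij, Finset.prod_pair hpq]; exact h)
  have hi : i ∈ ({p, q} : Finset ι) := e ▸ by simp
  have hj : j ∈ ({p, q} : Finset ι) := e ▸ by simp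
  simp only [Finset.mem_insert, Finset.mem_singleton] at hi hj
  grind

theorem exists_others (a b : ι) : ∃ c, c ≠ a ∧ c ≠ b := by
  classical
  haveI := Fintype.ofFinite ι
  by_contra hno
  push Not at hno
  have hsub : (Finset.univ : Finset ι) ⊆ {a, b} := fun c _ => by
    by_cases h : c = a
    · simp [h]
    · simp [hno c h]
  have := (Finset.card_le_card hsub).trans Finset.card_le_two
  rw [Finset.card_univ, ← Nat.card_eq_fintype_card, P.card_pts] at this
  omega

theorem exists_ne (a : ι) : ∃ b, b ≠ a := ⟨(P.exists_others a a).choose, (P.exists_others a a).choose_spec.1⟩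

theorem exists_pt : Nonempty ι := (Nat.card_pos_iff.1 (by rw [P.card_pts]; norm_num)).1

theorem move_two {a b a' b' : ι} (h : a ≠ b) (h' : a' ≠ b') :
    ∃ r ∈ P.R, r P.d = P.d ∧ r (P.k a) = P.k a' ∧ r (P.k b) = P.k b' := by
  obtain ⟨c, hca, hcb⟩ := P.exists_others a b
  obtain ⟨c', hca', hcb'⟩ := P.exists_others a' b'
  obtain ⟨r, hr, h0, h1, h2, -⟩ := P.move a b c a' b' c' h hca.symm hcb.symm h' hca'.symm hcb'.symm
  exact ⟨r, hr, h0, h1, h2⟩

theorem move_one (a a' : ι) : ∃ r ∈ P.R, r P.d = P.d ∧ r (P.k a) = P.k a' := by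
  obtain ⟨b, hb⟩ := P.exists_ne a
  obtain ⟨b', hb'⟩ := P.exists_ne a'
  obtain ⟨r, hr, h0, h1, -⟩ := P.move_two hb.symm hb'.symm
  exact ⟨r, hr, h0, h1⟩

/-- Sets of equally many points, at most three, are equivalent. -/
theorem move_set {s t : Finset ι} (h1 : 1 ≤ s.card) (h3 : s.card ≤ 3) (e : t.card = s.card) :
    ∃ r ∈ P.R, r P.d = P.d ∧ r (∏ i ∈ s, P.k i) = ∏ i ∈ t, P.k i := by
  classical
  rcases Nat.lt_or_ge s.card 2 with h | h
  · obtain ⟨a, rfl⟩ := Finset.card_eq_one.1 (show s.card = 1 by omega)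
    obtain ⟨a', rfl⟩ := Finset.card_eq_one.1 (show t.card = 1 by omega)
    simpa using P.move_one a a'
  rcases Nat.lt_or_ge s.card 3 with h' | h'
  · obtain ⟨a, b, hab, rfl⟩ := Finset.card_eq_two.1 (show s.card = 2 by omega)
    obtain ⟨a', b', hab', rfl⟩ := Finset.card_eq_two.1 (show t.card = 2 by omega)
    obtain ⟨r, hr, h0, e1, e2⟩ := P.move_two hab hab'
    exact ⟨r, hr, h0, by rw [Finset.prod_pair hab, Finset.prod_pair hab', map_mul, e1, e2]⟩
  · obtain ⟨a, b, c, hab, hac, hbc, rfl⟩ := Finset.card_eq_three.1 (show s.card = 3 by omega)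
    obtain ⟨a', b', c', hab', hac', hbc', rfl⟩ := Finset.card_eq_three.1 (show t.card = 3 by omega)
    obtain ⟨r, hr, h0, e1, e2, e3⟩ := P.move a b c a' b' c' hab hac hbc hab' hac' hbc'
    refine ⟨r, hr, h0, ?_⟩
    rw [Finset.prod_insert (by simp [hab, hac]), Finset.prod_pair hbc,
      Finset.prod_insert (by simp [hab', hac']), Finset.prod_pair hbc', map_mul, map_mul, e1, e2, e3]

theorem not_mem_of_eq {r : MulAut V} (hr : r ∈ P.R) {v : V} (hv : v ∉ P.Ω) : r v ∉ P.Ω := fun h => hv (by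
  simpa using P.invariant r⁻¹ (inv_mem hr) _ h)

theorem mem_iff_of_eq {r : MulAut V} (hr : r ∈ P.R) (v : V) : r v ∈ P.Ω ↔ v ∈ P.Ω :=
  ⟨fun h => by_contra fun hv => P.not_mem_of_eq hr hv h, P.invariant r hr v⟩

/-! The counts. -/

/-- The number of lifts of an element in the orbit. -/
noncomputable def fib (v : V) : ℕ := by
  classical exact (if v ∈ P.Ω then 1 else 0) + if P.d * v ∈ P.Ω then 1 else 0

theorem fib_le (v : V) : P.fib v ≤ 2 := by
  unfold fib; split <;> split <;> omega

theorem fib_move {r : MulAut V} (hr : r ∈ P.R) (hd : r P.d = P.d) (v : V) : P.fib (r v) = P.fib v := by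
  unfold fib
  have e : r (P.d * v) = P.d * r v := by rw [map_mul, hd]
  classical
  simp only [← e, P.mem_iff_of_eq hr]

theorem fib_psi {v w : V} (h : P.ψ v = P.ψ w) : P.fib v = P.fib w := by
  rcases P.lifts h with rfl | rfl
  · rfl
  · unfold fib; rw [P.d_cancel, add_comm]

theorem fib_pos {v : V} (h : v ∈ P.Ω) : 1 ≤ P.fib v := by
  unfold fib; rw [if_pos h]; omega

theorem fib_two {v : V} (h : v ∈ P.Ω) (h' : P.d * v ∈ P.Ω) : P.fib v = 2 := by
  unfold fib; rw [if_pos h, if_pos h']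

theorem fib_set {s t : Finset ι} (h1 : 1 ≤ s.card) (h3 : s.card ≤ 3) (e : t.card = s.card) :
    P.fib (∏ i ∈ t, P.k i) = P.fib (∏ i ∈ s, P.k i) := by
  obtain ⟨r, hr, hd, h⟩ := P.move_set h1 h3 e
  rw [← h, P.fib_move hr hd]

theorem fib_eq_ncard (v : V) : {x | x ∈ P.Ω ∧ P.ψ x = P.ψ v}.ncard = P.fib v := by
  classical
  have hset : {x | x ∈ P.Ω ∧ P.ψ x = P.ψ v} = ({v, P.d * v} : Set V) ∩ P.Ω := by
    ext x
    simp only [Set.mem_ofPred_eq, Set.mem_inter_iff, Set.mem_insert_iff, Set.mem_singleton_iff]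
    constructor
    · rintro ⟨hx, e⟩; exact ⟨P.lifts e, hx⟩
    · rintro ⟨rfl | rfl, hx⟩
      exacts [⟨hx, rfl⟩, ⟨hx, P.psi_dmul v⟩]
  rw [hset]
  unfold fib
  by_cases h1 : v ∈ P.Ω <;> by_cases h2 : P.d * v ∈ P.Ω
  · rw [Set.inter_eq_left.2 (by simp [Set.insert_subset_iff, h1, h2]), Set.ncard_pair (P.d_mul_ne v).symm,
      if_pos h1, if_pos h2]
  · rw [Set.insert_inter_of_mem h1, Set.singleton_inter_eq_empty.2 h2]; simp [h1, h2]
  · rw [Set.insert_inter_of_notMem h1, Set.inter_eq_left.2 (Set.singleton_subset_iff.2 h2)]; simp [h1, h2]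
  · rw [Set.insert_inter_of_notMem h1, Set.singleton_inter_eq_empty.2 h2]; simp [h1, h2]

theorem card_orbit [Fintype ι] {a b c : ℕ}
    (ha : ∀ s : Finset ι, s.card = 1 → P.fib (∏ i ∈ s, P.k i) = a)
    (hb : ∀ s : Finset ι, s.card = 2 → P.fib (∏ i ∈ s, P.k i) = b)
    (hc : ∀ s : Finset ι, s.card = 3 → P.fib (∏ i ∈ s, P.k i) = c) :
    P.Ω.ncard = 1 + 22 * a + 231 * b + 770 * c := by
  classical
  haveI := Fintype.ofFinite V
  set f : Finset ι → W := fun s => P.ψ (∏ i ∈ s, P.k i)
  set L := fun n => (Finset.univ : Finset ι).powersetCard n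
  set I := fun n => (L n).image f
  have hm : ∀ {n s}, s ∈ L n → s.card = n := fun hs => (Finset.mem_powersetCard.1 hs).2
  have hι : Fintype.card ι = 22 := by rw [← Nat.card_eq_fintype_card, P.card_pts]
  have hL : ∀ n, (L n).card = Nat.choose 22 n := fun n => by
    rw [Finset.card_powersetCard, Finset.card_univ, hι]
  have i12 : ∀ n, 1 ≤ n → n ≤ 2 → (I n).card = (L n).card := fun n h1 h2 =>
    Finset.card_image_of_injOn fun s hs t ht e => P.short s t (by rw [hm hs]; omega) (by rw [hm hs]; omega)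
      (by rw [hm ht]; omega) (by rw [hm ht]; omega) e
  have i3 : 2 * (I 3).card = (L 3).card := by
    refine le_antisymm (Finset.mul_card_image_le_card _ 2 fun y hy => ?_)
      (Finset.card_le_mul_card_image _ 2 fun y hy => ?_)
    · obtain ⟨s, hs, rfl⟩ := Finset.mem_image.1 hy
      obtain ⟨t, ht, hne, e⟩ := P.mate s (hm hs)
      refine le_trans (Finset.card_pair hne).ge (Finset.card_le_card ?_)
      simp only [Finset.insert_subset_iff, Finset.singleton_subset_iff, Finset.mem_filter]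
      exact ⟨⟨Finset.mem_powersetCard.2 ⟨Finset.subset_univ _, ht⟩, e⟩, hs, trivial⟩
    · obtain ⟨s, hs, rfl⟩ := Finset.mem_image.1 hy
      set Rs := (L 3).filter fun t => f t = f s
      have hle : (Rs.erase s).card ≤ 1 := Finset.card_le_one.2 fun u hu v hv => by
        simp only [Rs, Finset.mem_erase, Finset.mem_filter] at hu hv
        exact P.mate_unique s u v (hm hs) (hm hu.2.1) (hm hv.2.1) hu.2.2 hv.2.2 hu.1 hv.1
      have := Finset.pred_card_le_card_erase (a := s) (s := Rs)
      omega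
  set S := (Finset.univ.filter fun v => v ∈ P.Ω).erase P.d
  have hcard : P.Ω.ncard = S.card + 1 := by
    rw [Finset.card_erase_add_one (by simpa using P.d_mem), ← Set.ncard_coe_finset, Finset.coe_filter]
    simp
  have hmaps : ∀ v ∈ S, P.ψ v ∈ I 1 ∪ I 2 ∪ I 3 := by
    intro v hv
    obtain ⟨hvd, hv⟩ := Finset.mem_erase.1 hv
    have hvΩ := (Finset.mem_filter.1 hv).2
    obtain ⟨s, h1, h3, e⟩ := P.cls v fun h => ((P.ker_iff v).1 h).elim (fun h => P.one_notMem (h ▸ hvΩ)) hvd
    have hs : s ∈ L s.card := Finset.mem_powersetCard.2 ⟨Finset.subset_univ _, rfl⟩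
    simp only [Finset.mem_union, I, Finset.mem_image]
    rcases (show s.card = 1 ∨ s.card = 2 ∨ s.card = 3 by omega) with q | q | q <;> rw [q] at hs
    exacts [Or.inl (Or.inl ⟨s, hs, e⟩), Or.inl (Or.inr ⟨s, hs, e⟩), Or.inr ⟨s, hs, e⟩]
  have hfib : ∀ n, 1 ≤ n → n ≤ 3 → ∀ m, (∀ s : Finset ι, s.card = n → P.fib (∏ i ∈ s, P.k i) = m) →
      ∀ w ∈ I n, (S.filter fun v => P.ψ v = w).card = m := by
    intro n h1 h3 m hm' w hw
    obtain ⟨s, hs, rfl⟩ := Finset.mem_image.1 hw
    rw [← hm' s (hm hs), ← P.fib_eq_ncard, ← Set.ncard_coe_finset]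
    congr 1
    ext v
    simp only [S, Finset.coe_filter, Set.mem_ofPred_eq, Finset.mem_erase, Finset.mem_filter, Finset.mem_univ,
      true_and]
    refine ⟨fun h => ⟨h.1.2, h.2⟩, fun h => ⟨⟨fun e => ?_, h.1⟩, h.2⟩⟩
    have h' := h.2
    rw [e, P.psi_d] at h'
    exact P.ne_one s (by rw [hm hs]; exact h1) (by rw [hm hs]; exact h3) h'.symm
  have d12 : Disjoint (I 1) (I 2) := Finset.disjoint_left.2 fun y hy hy' => by
    obtain ⟨s, hs, rfl⟩ := Finset.mem_image.1 hy
    obtain ⟨t, ht, e⟩ := Finset.mem_image.1 hy'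
    have := P.short s t (by rw [hm hs]) (by rw [hm hs]; norm_num) (by rw [hm ht]; norm_num)
      (by rw [hm ht]; norm_num) e.symm
    have h2 := hm ht; rw [← this, hm hs] at h2; omega
  have d3 : Disjoint (I 1 ∪ I 2) (I 3) := Finset.disjoint_left.2 fun y hy hy' => by
    obtain ⟨t, ht, rfl⟩ := Finset.mem_image.1 hy'
    rcases Finset.mem_union.1 hy with hy | hy <;> obtain ⟨s, hs, e⟩ := Finset.mem_image.1 hy
    all_goals
      have := P.short s t (by simp [hm hs]) (by simp [hm hs]) (by simp [hm ht]) (by simp [hm ht]) e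
      have h2 := hm ht
      rw [← this, hm hs] at h2
      omega
  rw [hcard, Finset.card_eq_sum_card_fiberwise hmaps, Finset.sum_union d3, Finset.sum_union d12,
    Finset.sum_congr rfl (hfib 1 le_rfl (by norm_num) a ha),
    Finset.sum_congr rfl (hfib 2 (by norm_num) (by norm_num) b hb),
    Finset.sum_congr rfl (hfib 3 (by norm_num) le_rfl c hc),
    Finset.sum_const, Finset.sum_const, Finset.sum_const, i12 1 le_rfl (by norm_num),
    i12 2 (by norm_num) le_rfl, hL, hL, smul_eq_mul, smul_eq_mul, smul_eq_mul]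
  have i3' : (I 3).card = 770 := by
    rw [hL, show Nat.choose 22 3 = 1540 by decide] at i3; omega
  rw [i3', show Nat.choose 22 1 = 22 from rfl, show Nat.choose 22 2 = 231 by decide]
  ring

/-- The orbit has length dividing what the automorphisms allow. -/
theorem count_dvd : 9240 * P.Ω.ncard ∣ ∏ i : Fin 11, (2 ^ 11 - 2 ^ (i : ℕ)) := by
  classical
  haveI := Fintype.ofFinite ι
  haveI : Fact (Nat.Prime 2) := ⟨Nat.prime_two⟩
  have horb : (MulAction.orbit ↥P.R P.d).ncard = P.Ω.ncard := by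
    congr 1
    ext v
    constructor
    · rintro ⟨⟨r, hr⟩, rfl⟩; exact P.invariant r hr _ P.d_mem
    · intro hv
      obtain ⟨r, hr, e⟩ := P.trans v hv
      exact ⟨⟨r, hr⟩, e⟩
  set J := MulAction.stabilizer ↥P.R P.d
  let g : (Fin 3 ↪ ι) → V × V × V := fun e => (P.k (e 0), P.k (e 1), P.k (e 2))
  obtain ⟨e₀⟩ : Nonempty (Fin 3 ↪ ι) :=
    Function.Embedding.nonempty_of_card_le (by rw [Fintype.card_fin, ← Nat.card_eq_fintype_card, P.card_pts]; norm_num)
  have hJ : 9240 ∣ Nat.card ↥J := by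
    have he : (MulAction.orbit ↥J (g e₀)).ncard = 9240 := by
      have hrange : MulAction.orbit ↥J (g e₀) = Set.range g := by
        ext x
        constructor
        · rintro ⟨⟨⟨r, hr⟩, hrd⟩, rfl⟩
          have hd : r P.d = P.d := MulAction.mem_stabilizer_iff.1 hrd
          choose j hj using fun l : Fin 3 => P.stab r hr hd (e₀ l)
          refine ⟨⟨j, fun l m h => e₀.injective (P.k_inj (r.injective (by rw [hj, hj, h])))⟩, ?_⟩
          show (P.k (j 0), P.k (j 1), P.k (j 2)) = (r (P.k (e₀ 0)), r (P.k (e₀ 1)), r (P.k (e₀ 2)))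
          rw [hj, hj, hj]
        · rintro ⟨e, rfl⟩
          obtain ⟨r, hr, hd, h0, h1, h2⟩ := P.move (e₀ 0) (e₀ 1) (e₀ 2) (e 0) (e 1) (e 2)
            (e₀.injective.ne (by decide)) (e₀.injective.ne (by decide)) (e₀.injective.ne (by decide))
            (e.injective.ne (by decide)) (e.injective.ne (by decide)) (e.injective.ne (by decide))
          refine ⟨⟨⟨r, hr⟩, MulAction.mem_stabilizer_iff.2 hd⟩, ?_⟩
          show (r (P.k (e₀ 0)), r (P.k (e₀ 1)), r (P.k (e₀ 2))) = (P.k (e 0), P.k (e 1), P.k (e 2))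
          rw [h0, h1, h2]
      have hinj : Function.Injective g := fun e e' h => by
        simp only [g, Prod.mk.injEq] at h
        refine DFunLike.ext _ _ fun l => ?_
        fin_cases l
        exacts [P.k_inj h.1, P.k_inj h.2.1, P.k_inj h.2.2]
      rw [hrange, ← Nat.card_coe_set_eq, Nat.card_range_of_injective hinj, Nat.card_eq_fintype_card,
        Fintype.card_embedding_eq, Fintype.card_fin, ← Nat.card_eq_fintype_card, P.card_pts]
      decide
    rw [← he, ← MulAction.index_stabilizer]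
    exact Subgroup.index_dvd_card _
  have h2 := Subgroup.card_mul_index J
  rw [MulAction.index_stabilizer, horb] at h2
  have h3 := CfsgLib.SympType.card_aut_dvd (p := 2) (Q := V) (fun v => by rw [pow_two]; exact P.sq v)
    (e := 11) P.card_space
  exact ((Nat.mul_dvd_mul_right hJ _).trans h2.dvd).trans ((Subgroup.card_subgroup_dvd_card P.R).trans h3)

theorem count_cases {a b c : ℕ} (ha : a ≤ 2) (hb : b ≤ 2) (hc : c ≤ 2)
    (h : 9240 * (1 + 22 * a + 231 * b + 770 * c) ∣ ∏ i : Fin 11, (2 ^ 11 - 2 ^ (i : ℕ))) :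
    (a = 0 ∧ b = 0 ∧ c = 0) ∨ (a = 1 ∧ b = 0 ∧ c = 0) ∨ (a = 1 ∧ b = 1 ∧ c = 0) ∨ (a = 1 ∧ b = 1 ∧ c = 1) ∨
      a = 2 := by
  norm_num [Fin.prod_univ_succ] at h
  interval_cases a <;> interval_cases b <;> interval_cases c <;> first | omega | norm_num at h

/-- The same with the other lifts. -/
def flip : Config ι V W where
  Ω := P.Ω
  R := P.R
  d := P.d
  ψ := P.ψ
  k := fun i => P.d * P.k i
  card_pts := P.card_pts
  card_space := P.card_space
  sq := P.sq
  d_ne := P.d_ne
  ker_iff := P.ker_iff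
  ne_one := fun s h1 h3 => by simpa [Finset.prod_mul_distrib, map_prod, P.psi_d] using P.ne_one s h1 h3
  cls := fun v hv => by simpa [Finset.prod_mul_distrib, map_prod, P.psi_d] using P.cls v hv
  short := fun s t h1 h2 h3 h4 h => P.short s t h1 h2 h3 h4 (by
    simpa [Finset.prod_mul_distrib, map_prod, P.psi_d] using h)
  mate := fun s hs => by simpa [Finset.prod_mul_distrib, map_prod, P.psi_d] using P.mate s hs
  mate_unique := fun s t t' h1 h2 h3 h4 h5 => P.mate_unique s t t' h1 h2 h3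
    (by simpa [Finset.prod_mul_distrib, map_prod, P.psi_d] using h4)
    (by simpa [Finset.prod_mul_distrib, map_prod, P.psi_d] using h5)
  d_mem := P.d_mem
  one_notMem := P.one_notMem
  invariant := P.invariant
  trans := P.trans
  move := fun a b c a' b' c' h1 h2 h3 h4 h5 h6 => by
    obtain ⟨r, hr, h0, e1, e2, e3⟩ := P.move a b c a' b' c' h1 h2 h3 h4 h5 h6
    exact ⟨r, hr, h0, by rw [map_mul, h0, e1], by rw [map_mul, h0, e2], by rw [map_mul, h0, e3]⟩
  stab := fun r hr h0 i => by
    obtain ⟨j, hj⟩ := P.stab r hr h0 i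
    exact ⟨j, by rw [map_mul, h0, hj]⟩

/-! The orbital of the points. -/

/-- `v` is one of the points seen from `u`. -/
def Out (u v : V) : Prop := ∃ r ∈ P.R, r P.d = u ∧ ∃ i, r (P.k i) = v

theorem out_map {r : MulAut V} (hr : r ∈ P.R) {u v : V} (h : P.Out u v) : P.Out (r u) (r v) := by
  obtain ⟨q, hq, rfl, i, rfl⟩ := h
  exact ⟨r * q, mul_mem hr hq, rfl, i, rfl⟩

theorem out_comap {r : MulAut V} (hr : r ∈ P.R) {u v : V} (h : P.Out (r u) (r v)) : P.Out u v := by
  simpa using P.out_map (inv_mem hr) h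

theorem out_d {v : V} : P.Out P.d v ↔ ∃ i, P.k i = v := by
  constructor
  · rintro ⟨r, hr, h0, i, rfl⟩
    obtain ⟨j, hj⟩ := P.stab r hr h0 i
    exact ⟨j, hj.symm⟩
  · rintro ⟨i, rfl⟩
    exact ⟨1, one_mem _, rfl, i, rfl⟩

theorem out_d_k (i : ι) : P.Out P.d (P.k i) := P.out_d.2 ⟨i, rfl⟩

theorem mem_left {u v : V} (h : P.Out u v) : u ∈ P.Ω := by
  obtain ⟨r, hr, rfl, -⟩ := h
  exact P.invariant r hr _ P.d_mem

/-- What holds at the base point holds everywhere. -/
theorem out_rec {Q : V → V → Prop} (hQ : ∀ r ∈ P.R, ∀ u v, Q u v → Q (r u) (r v))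
    (h0 : ∀ i, Q P.d (P.k i)) {u v : V} (h : P.Out u v) : Q u v := by
  obtain ⟨r, hr, rfl, i, rfl⟩ := h
  exact hQ r hr _ _ (h0 i)

theorem out_irrefl (u : V) : ¬ P.Out u u := by
  rintro ⟨r, hr, h0, i, hi⟩
  exact P.k_ne_d i (r.injective (hi.trans h0.symm))

theorem out_not_mul {u v : V} (h : P.Out u v) : ¬ P.Out u (u * v) := by
  refine P.out_rec (Q := fun u v => ¬ P.Out u (u * v)) (fun r hr u v h h' => h ?_) (fun i h' => ?_) h
  · exact P.out_comap hr (by rwa [map_mul])
  · obtain ⟨j, hj⟩ := P.out_d.1 h'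
    obtain rfl : j = i := P.psi_k_inj (by rw [hj, P.psi_dmul])
    exact P.d_mul_ne _ hj.symm

theorem out_set_map {r : MulAut V} (hr : r ∈ P.R) (u : V) : {v | P.Out (r u) v} = r '' {v | P.Out u v} := by
  ext v
  constructor
  · intro h
    exact ⟨r.symm v, P.out_comap hr (by rw [r.apply_symm_apply]; exact h), r.apply_symm_apply v⟩
  · rintro ⟨w, hw, rfl⟩; exact P.out_map hr hw

theorem out_card {u : V} (hu : u ∈ P.Ω) : {v | P.Out u v}.ncard = 22 := by
  obtain ⟨r, hr, rfl⟩ := P.trans u hu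
  rw [P.out_set_map hr, Set.ncard_image_of_injective _ r.injective,
    show {v | P.Out P.d v} = Set.range P.k from Set.ext fun v => P.out_d,
    ← Nat.card_coe_set_eq, Nat.card_range_of_injective fun i j e => P.k_inj e, P.card_pts]

variable (hk : ∀ i, P.k i ∈ P.Ω)

include hk

theorem mem_right {u v : V} (h : P.Out u v) : v ∈ P.Ω := by
  obtain ⟨r, hr, rfl, i, rfl⟩ := h
  exact P.invariant r hr _ (hk i)

theorem in_card : {u | P.Out u P.d}.ncard = 22 := by
  classical
  haveI := Fintype.ofFinite V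
  set S := Finset.univ.filter fun v => v ∈ P.Ω
  have hS : ∀ {v}, v ∈ S ↔ v ∈ P.Ω := fun {v} => by simp [S]
  have hout : ∀ u ∈ S, (S.filter fun v => P.Out u v).card = 22 := fun u hu => by
    rw [← P.out_card (hS.1 hu), ← Set.ncard_coe_finset, Finset.coe_filter]
    exact congrArg Set.ncard (Set.ext fun v => ⟨fun h => h.2, fun h => ⟨hS.2 (P.mem_right hk h), h⟩⟩)
  have hin : ∀ v ∈ S, (S.filter fun u => P.Out u v).card = {u | P.Out u P.d}.ncard := fun v hv => by
    obtain ⟨r, hr, rfl⟩ := P.trans v (hS.1 hv)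
    rw [← Set.ncard_image_of_injective {u | P.Out u P.d} r.injective, ← Set.ncard_coe_finset,
      Finset.coe_filter]
    refine congrArg Set.ncard (Set.ext fun u => ⟨fun h => ?_, ?_⟩)
    · exact ⟨r.symm u, P.out_comap hr (by rw [r.apply_symm_apply]; exact h.2), r.apply_symm_apply u⟩
    · rintro ⟨w, hw, rfl⟩
      exact ⟨hS.2 (P.invariant r hr _ (P.mem_left hw)), P.out_map hr hw⟩
  have h : ∑ u ∈ S, (S.filter fun v => P.Out u v).card = ∑ v ∈ S, (S.filter fun u => P.Out u v).card :=
    Finset.sum_card_bipartiteAbove_eq_sum_card_bipartiteBelow _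
  rw [Finset.sum_congr rfl hout, Finset.sum_congr rfl hin, Finset.sum_const, Finset.sum_const,
    smul_eq_mul, smul_eq_mul] at h
  have hpos : 0 < S.card := Finset.card_pos.2 ⟨P.d, hS.2 P.d_mem⟩
  exact (Nat.eq_of_mul_eq_mul_left hpos h).symm

omit hk in
/-- A small invariant set consists of lifts of points. -/
theorem inv_small {X : Set V} (hinv : ∀ r ∈ P.R, r P.d = P.d → ∀ v ∈ X, r v ∈ X) (hc : X.ncard < 231)
    {v : V} (hv : v ∈ X) (hne : P.ψ v ≠ 1) : ∃ i, P.ψ v = P.ψ (P.k i) := by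
  classical
  haveI := Fintype.ofFinite ι
  haveI := Fintype.ofFinite V
  obtain ⟨s, h1, h3, e⟩ := P.cls v hne
  rcases (show s.card = 1 ∨ 2 ≤ s.card by omega) with h | h
  · obtain ⟨i, rfl⟩ := Finset.card_eq_one.1 h
    exact ⟨i, by simpa using e.symm⟩
  exfalso
  set L := (Finset.univ : Finset ι).powersetCard s.card
  have hsub : L.image (fun t => P.ψ (∏ i ∈ t, P.k i)) ⊆ X.toFinset.image P.ψ := fun w hw => by
    obtain ⟨t, ht, rfl⟩ := Finset.mem_image.1 hw
    obtain ⟨r, hr, hd, hrs⟩ := P.move_set h1 h3 (Finset.mem_powersetCard.1 ht).2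
    refine Finset.mem_image.2 ⟨r v, Set.mem_toFinset.2 (hinv r hr hd v hv), ?_⟩
    rcases P.lifts e with e' | e'
    · rw [← hrs, e']
    · rw [← hrs, e', map_mul r, hd, P.psi_dmul]
  have := (Finset.card_le_card hsub).trans Finset.card_image_le
  rw [← Set.ncard_eq_toFinset_card'] at this
  have hι : Fintype.card ι = 22 := by rw [← Nat.card_eq_fintype_card, P.card_pts]
  rcases (show s.card = 2 ∨ s.card = 3 by omega) with q | q
  · rw [Finset.card_image_of_injOn fun t ht u hu e' => P.short t u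
      (by rw [(Finset.mem_powersetCard.1 ht).2]; omega) (by rw [(Finset.mem_powersetCard.1 ht).2]; omega)
      (by rw [(Finset.mem_powersetCard.1 hu).2]; omega) (by rw [(Finset.mem_powersetCard.1 hu).2]; omega) e',
      Finset.card_powersetCard, Finset.card_univ, hι, q, show Nat.choose 22 2 = 231 by decide] at this
    omega
  · have h2 : L.card ≤ 2 * (L.image fun t => P.ψ (∏ i ∈ t, P.k i)).card := by
      refine Finset.card_le_mul_card_image _ 2 fun y hy => ?_
      obtain ⟨t, ht, rfl⟩ := Finset.mem_image.1 hy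
      set Rs := L.filter fun u => P.ψ (∏ i ∈ u, P.k i) = P.ψ (∏ i ∈ t, P.k i)
      have hle : (Rs.erase t).card ≤ 1 := Finset.card_le_one.2 fun u hu w hw => by
        simp only [Rs, L, q, Finset.mem_erase, Finset.mem_filter, Finset.mem_powersetCard] at ht hu hw
        exact P.mate_unique t u w ht.2 hu.2.1.2 hw.2.1.2 hu.2.2 hw.2.2 hu.1 hw.1
      have := Finset.pred_card_le_card_erase (a := t) (s := Rs)
      omega
    rw [Finset.card_powersetCard, Finset.card_univ, hι, q, show Nat.choose 22 3 = 1540 by decide] at h2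
    omega

theorem in_points {v : V} (h : P.Out v P.d) : ∃ i, v = P.k i ∨ v = P.d * P.k i := by
  have hne : P.ψ v ≠ 1 := fun e => ((P.ker_iff v).1 e).elim
    (fun e => P.one_notMem (e ▸ P.mem_left h)) fun e => P.out_irrefl _ (e ▸ h)
  obtain ⟨i, hi⟩ := P.inv_small (X := {u | P.Out u P.d})
    (fun r hr hd u hu => by have := P.out_map hr hu; rwa [hd] at this)
    (by rw [P.in_card hk]; norm_num) h hne
  exact ⟨i, P.lifts hi⟩

/-- The arrows into the base point form one of the two sets of lifts. -/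
theorem in_cases : (∀ i, P.Out (P.k i) P.d) ∨ (∀ i, P.Out (P.d * P.k i) P.d) := by
  obtain ⟨v, hv⟩ := Set.nonempty_of_ncard_ne_zero (show {u | P.Out u P.d}.ncard ≠ 0 by rw [P.in_card hk]; norm_num)
  obtain ⟨i, rfl | rfl⟩ := P.in_points hk hv
  · refine Or.inl fun j => ?_
    obtain ⟨r, hr, hd, e⟩ := P.move_one i j
    have := P.out_map hr hv
    rwa [e, hd] at this
  · refine Or.inr fun j => ?_
    obtain ⟨r, hr, hd, e⟩ := P.move_one i j
    have := P.out_map hr hv
    rwa [map_mul, hd, e] at this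

/-- The other points seen from a point. -/
theorem near (i : ι) {v : V} (h : P.Out (P.k i) v) (h1 : v ≠ P.d) (h2 : v ≠ P.d * P.k i) :
    ∃ j, j ≠ i ∧ (v = P.k j ∨ v = P.d * P.k j ∨ v = P.k i * P.k j ∨ v = P.d * (P.k i * P.k j)) := by
  classical
  haveI := Fintype.ofFinite ι
  haveI := Fintype.ofFinite V
  have hne : P.ψ v ≠ 1 := fun e => ((P.ker_iff v).1 e).elim
    (fun e => P.one_notMem (e ▸ P.mem_right hk h)) h1
  obtain ⟨s, hs1, hs3, e⟩ := P.cls v hne
  have hι : Fintype.card ι = 22 := by rw [← Nat.card_eq_fintype_card, P.card_pts]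
  set X := fun j => {w | P.Out (P.k j) w}.toFinset.image P.ψ
  have hX : ∀ j, (X j).card ≤ 22 := fun j => Finset.card_image_le.trans (le_of_eq (by
    rw [← Set.ncard_eq_toFinset_card', P.out_card (hk j)]))
  have hmove : ∀ r ∈ P.R, r P.d = P.d → ∀ j, r (P.k i) = P.k j → P.ψ (r (∏ l ∈ s, P.k l)) ∈ X j := by
    intro r hr hd j hj
    refine Finset.mem_image.2 ⟨r v, Set.mem_toFinset.2 (hj ▸ P.out_map hr h), ?_⟩
    rcases P.lifts e with e' | e'
    · rw [e']
    · rw [e', map_mul r, hd, P.psi_dmul]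
  rcases Nat.lt_or_ge s.card 2 with q | q
  · obtain ⟨j, rfl⟩ := Finset.card_eq_one.1 (show s.card = 1 by omega)
    rw [Finset.prod_singleton] at e
    rcases P.lifts e.symm with e' | e'
    · exact ⟨j, fun hji => P.out_irrefl (P.k i) (by subst hji; rwa [e'] at h), Or.inl e'⟩
    · exact ⟨j, fun hji => h2 (by rw [e', hji]), Or.inr (Or.inl e')⟩
  rcases Nat.lt_or_ge s.card 3 with q' | q'
  · obtain ⟨p, j, hpj, rfl⟩ := Finset.card_eq_two.1 (show s.card = 2 by omega)
    rw [Finset.prod_pair hpj] at e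
    by_cases hi : i = p ∨ i = j
    · have key : ∃ l, l ≠ i ∧ P.ψ v = P.ψ (P.k i * P.k l) := by
        rcases hi with rfl | rfl
        · exact ⟨j, hpj.symm, e.symm⟩
        · exact ⟨p, hpj, by rw [← e, mul_comm]⟩
      obtain ⟨l, hl, hl'⟩ := key
      exact ⟨l, hl, Or.inr (Or.inr (P.lifts hl'))⟩
    push Not at hi
    exfalso
    set L := ((Finset.univ : Finset ι).erase i).powersetCard 2
    have hsub : L.image (fun t => P.ψ (∏ l ∈ t, P.k l)) ⊆ X i := fun w hw => by
      obtain ⟨t, ht, rfl⟩ := Finset.mem_image.1 hw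
      obtain ⟨hti, ht2⟩ := Finset.mem_powersetCard.1 ht
      obtain ⟨p', j', hpj', rfl⟩ := Finset.card_eq_two.1 ht2
      obtain ⟨r, hr, hd, e1, e2, e3⟩ := P.move i p j i p' j' hi.1 hi.2 hpj
        (fun q => (Finset.mem_erase.1 (hti (by simp : p' ∈ ({p', j'} : Finset ι)))).1 q.symm)
        (fun q => (Finset.mem_erase.1 (hti (by simp : j' ∈ ({p', j'} : Finset ι)))).1 q.symm) hpj'
      have := hmove r hr hd i e1
      rwa [Finset.prod_pair hpj, map_mul, e2, e3, ← Finset.prod_pair hpj'] at this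
    have := (Finset.card_le_card hsub).trans (hX i)
    rw [Finset.card_image_of_injOn fun t ht u hu e' => P.short t u
      (by rw [(Finset.mem_powersetCard.1 ht).2]; omega) (by rw [(Finset.mem_powersetCard.1 ht).2])
      (by rw [(Finset.mem_powersetCard.1 hu).2]; omega) (by rw [(Finset.mem_powersetCard.1 hu).2]; omega) e',
      Finset.card_powersetCard, Finset.card_erase_of_mem (Finset.mem_univ i), Finset.card_univ, hι,
      show Nat.choose (22 - 1) 2 = 210 by decide] at this
    omega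
  · exfalso
    set L := (Finset.univ : Finset ι).powersetCard 3
    have hsub : L.image (fun t => P.ψ (∏ l ∈ t, P.k l)) ⊆ Finset.univ.biUnion X := fun w hw => by
      obtain ⟨t, ht, rfl⟩ := Finset.mem_image.1 hw
      obtain ⟨r, hr, hd, hrs⟩ := P.move_set (s := s) (t := t) hs1 hs3
        (by rw [(Finset.mem_powersetCard.1 ht).2]; omega)
      obtain ⟨j, hj⟩ := P.stab r hr hd i
      exact Finset.mem_biUnion.2 ⟨j, Finset.mem_univ j, hrs ▸ hmove r hr hd j hj⟩
    have h3 := (Finset.card_le_card hsub).trans Finset.card_biUnion_le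
    have h4 : ∑ j, (X j).card ≤ 22 * 22 := (Finset.sum_le_sum fun j _ => hX j).trans (by
      rw [Finset.sum_const, Finset.card_univ, hι, smul_eq_mul])
    have h5 : L.card ≤ 2 * (L.image fun t => P.ψ (∏ l ∈ t, P.k l)).card := by
      refine Finset.card_le_mul_card_image _ 2 fun y hy => ?_
      obtain ⟨t, ht, rfl⟩ := Finset.mem_image.1 hy
      set Rs := L.filter fun u => P.ψ (∏ l ∈ u, P.k l) = P.ψ (∏ l ∈ t, P.k l)
      have hle : (Rs.erase t).card ≤ 1 := Finset.card_le_one.2 fun u hu w hw => by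
        simp only [Rs, L, Finset.mem_erase, Finset.mem_filter, Finset.mem_powersetCard] at ht hu hw
        exact P.mate_unique t u w ht.2 hu.2.1.2 hw.2.1.2 hu.2.2 hw.2.2 hu.1 hw.1
      have := Finset.pred_card_le_card_erase (a := t) (s := Rs)
      omega
    rw [Finset.card_powersetCard, Finset.card_univ, hι, show Nat.choose 22 3 = 1540 by decide] at h5
    omega

theorem exists_other (i : ι) : ∃ v, P.Out (P.k i) v ∧ v ≠ P.d ∧ v ≠ P.d * P.k i := by
  by_contra hno
  push Not at hno
  have hsub : {v | P.Out (P.k i) v} ⊆ {P.d, P.d * P.k i} := fun v hv => by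
    by_cases h : v = P.d
    · exact Or.inl h
    · exact Or.inr (hno v hv h)
  have := (Set.ncard_le_ncard hsub (Set.toFinite _)).trans (Set.ncard_insert_le _ _)
  rw [P.out_card (hk i), Set.ncard_singleton] at this
  omega

omit hk in
/-- Double counting for an invariant relation. -/
theorem col_card {Q : V → V → Prop} (hQ : ∀ r ∈ P.R, ∀ u v, Q u v → Q (r u) (r v))
    (hl : ∀ u v, Q u v → u ∈ P.Ω ∧ v ∈ P.Ω) (hrow : {v | Q P.d v}.ncard = 22) :
    {u | Q u P.d}.ncard = 22 := by
  classical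
  haveI := Fintype.ofFinite V
  set S := Finset.univ.filter fun v => v ∈ P.Ω
  have hS : ∀ {v}, v ∈ S ↔ v ∈ P.Ω := fun {v} => by simp [S]
  have hback : ∀ r ∈ P.R, ∀ u v, Q (r u) v → Q u (r.symm v) := fun r hr u v h => by
    simpa using hQ r⁻¹ (inv_mem hr) _ _ h
  have hback' : ∀ r ∈ P.R, ∀ u v, Q u (r v) → Q (r.symm u) v := fun r hr u v h => by
    simpa using hQ r⁻¹ (inv_mem hr) _ _ h
  have hout : ∀ u ∈ S, (S.filter fun v => Q u v).card = 22 := fun u hu => by
    obtain ⟨r, hr, rfl⟩ := P.trans u (hS.1 hu)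
    rw [← hrow, ← Set.ncard_image_of_injective {v | Q P.d v} r.injective, ← Set.ncard_coe_finset,
      Finset.coe_filter]
    refine congrArg Set.ncard (Set.ext fun v => ⟨fun h => ?_, ?_⟩)
    · exact ⟨r.symm v, hback r hr _ _ h.2, r.apply_symm_apply v⟩
    · rintro ⟨w, hw, rfl⟩
      exact ⟨hS.2 (hl _ _ (hQ r hr _ _ hw)).2, hQ r hr _ _ hw⟩
  have hin : ∀ v ∈ S, (S.filter fun u => Q u v).card = {u | Q u P.d}.ncard := fun v hv => by
    obtain ⟨r, hr, rfl⟩ := P.trans v (hS.1 hv)
    rw [← Set.ncard_image_of_injective {u | Q u P.d} r.injective, ← Set.ncard_coe_finset, Finset.coe_filter]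
    refine congrArg Set.ncard (Set.ext fun u => ⟨fun h => ?_, ?_⟩)
    · exact ⟨r.symm u, hback' r hr _ _ h.2, r.apply_symm_apply u⟩
    · rintro ⟨w, hw, rfl⟩
      exact ⟨hS.2 (hl _ _ (hQ r hr _ _ hw)).1, hQ r hr _ _ hw⟩
  have h : ∑ u ∈ S, (S.filter fun v => Q u v).card = ∑ v ∈ S, (S.filter fun u => Q u v).card :=
    Finset.sum_card_bipartiteAbove_eq_sum_card_bipartiteBelow _
  rw [Finset.sum_congr rfl hout, Finset.sum_congr rfl hin, Finset.sum_const, Finset.sum_const,
    smul_eq_mul, smul_eq_mul] at h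
  exact (Nat.eq_of_mul_eq_mul_left (Finset.card_pos.2 ⟨P.d, hS.2 P.d_mem⟩) h).symm

/-- Not all lifts of points are in the orbit. -/
theorem not_both (hdk : ∀ i, P.d * P.k i ∈ P.Ω) : False := by
  classical
  haveI := Fintype.ofFinite ι
  obtain ⟨i⟩ := P.exists_pt
  rcases P.in_cases hk with hin | hin
  · -- the symmetric case
    have hsymm : ∀ {u v}, P.Out u v → P.Out v u := fun h => P.out_rec (Q := fun u v => P.Out v u)
      (fun r hr _ _ q => P.out_map hr q) hin h
    set Q : V → V → Prop := fun u w => P.Out u (u * w)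
    have hQ : ∀ r ∈ P.R, ∀ u v, Q u v → Q (r u) (r v) := fun r hr u v h => by
      show P.Out (r u) (r u * r v)
      rw [← map_mul]; exact P.out_map hr h
    have hmul : ∀ {u v}, P.Out u v → u * v ∈ P.Ω := fun h => P.out_rec (Q := fun u v => u * v ∈ P.Ω)
      (fun r hr u v q => by rw [← map_mul]; exact P.invariant r hr _ q) hdk h
    have hcard := P.col_card hQ (fun u v h => ⟨P.mem_left h, P.mul_cancel_self u v ▸ hmul h⟩) (by
      rw [show {v | Q P.d v} = (fun v => P.d * v) '' {v | P.Out P.d v} from ?_,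
        Set.ncard_image_of_injective _ (mul_right_injective _), P.out_card P.d_mem]
      ext v
      constructor
      · intro h; exact ⟨P.d * v, h, P.d_cancel v⟩
      · rintro ⟨w, hw, rfl⟩
        show P.Out P.d (P.d * (P.d * w))
        rw [P.d_cancel]; exact hw)
    obtain ⟨v, hv⟩ := Set.nonempty_of_ncard_ne_zero (show {u | Q u P.d}.ncard ≠ 0 by rw [hcard]; norm_num)
    have hne : P.ψ v ≠ 1 := fun e => by
      rcases (P.ker_iff v).1 e with e | e
      · exact P.one_notMem (e ▸ P.mem_left hv)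
      · exact P.one_notMem (by have := P.mem_right hk hv; rwa [e, P.sq] at this)
    obtain ⟨j, hj⟩ := P.inv_small (X := {u | Q u P.d})
      (fun r hr hd u hu => by have := hQ r hr _ _ hu; rwa [hd] at this) (by rw [hcard]; norm_num) hv hne
    have hv' : P.Out v (v * P.d) := hv
    rcases P.lifts hj with e | e <;> rw [e] at hv'
    · exact P.out_not_mul (hin j) hv'
    · rw [mul_comm (P.d * P.k j) P.d, P.d_cancel] at hv'
      refine P.out_not_mul (hin j) ?_
      rw [mul_comm]; exact hsymm hv'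
  -- the cyclic case
  have heq : ∀ {v}, P.Out v P.d → ∃ j, P.d * P.k j = v := fun {v} h => by
    have hsub : Set.range (fun j => P.d * P.k j) ⊆ {u | P.Out u P.d} := by
      rintro _ ⟨j, rfl⟩; exact hin j
    have e := Set.eq_of_subset_of_ncard_le hsub (le_of_eq (by
      rw [P.in_card hk, ← Nat.card_coe_set_eq,
        Nat.card_range_of_injective (fun p q h' => P.k_inj (mul_left_cancel h')), P.card_pts])) (Set.toFinite _)
    exact (e.symm ▸ h : v ∈ Set.range fun j => P.d * P.k j)
  have hcyc : ∀ {u v}, P.Out u v → P.Out (u * v) u := fun h => P.out_rec (Q := fun u v => P.Out (u * v) u)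
    (fun r hr u v q => by rw [← map_mul]; exact P.out_map hr q) hin h
  have hno2 : ∀ {u v}, P.Out u v → ¬ P.Out v u := fun h => P.out_rec (Q := fun u v => ¬ P.Out v u)
    (fun r hr u v q q' => q (P.out_comap hr q')) (fun j h' => by
      obtain ⟨l, hl⟩ := heq h'
      have := P.psi_k_inj (i := l) (j := j) (by rw [← hl, P.psi_dmul])
      exact P.d_mul_ne _ (this ▸ hl)) h
  have hfree : ∀ {u v}, P.Out u v → ∀ w, P.Out u w → ¬ P.Out v w := fun h =>
    P.out_rec (Q := fun u v => ∀ w, P.Out u w → ¬ P.Out v w) (fun r hr u v q w h1 h2 =>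
      q (r.symm w) (P.out_comap hr (by rw [r.apply_symm_apply]; exact h1))
        (P.out_comap hr (by rw [r.apply_symm_apply]; exact h2))) (fun p w hw hpw => by
      obtain ⟨q, rfl⟩ := P.out_d.1 hw
      by_cases hpq : p = q
      · exact P.out_irrefl (P.k p) (by subst hpq; exact hpw)
      · obtain ⟨r, hr, -, e1, e2⟩ := P.move_two hpq (Ne.symm hpq)
        have := P.out_map hr hpw
        rw [e1, e2] at this
        exact hno2 hpw this) h
  have hdk' : ∀ j, P.Out (P.k j) (P.d * P.k j) := fun j => by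
    have := hcyc (hin j)
    rwa [mul_comm (P.d * P.k j), P.d_cancel] at this
  obtain ⟨v, hv, hv1, hv2⟩ := P.exists_other hk i
  obtain ⟨j, hji, hj⟩ := P.near hk i hv hv1 hv2
  rcases hj with rfl | rfl | rfl | rfl
  · exact hfree (P.out_d_k i) _ (P.out_d_k j) hv
  swap
  · have := hcyc hv
    rw [P.mul_cancel_self] at this
    exact hfree (P.out_d_k j) _ (P.out_d_k i) this
  swap
  · have := hcyc hv
    rw [← mul_assoc, mul_comm (P.k i) P.d, mul_assoc, P.mul_cancel_self] at this
    exact hfree (hin j) _ this (P.out_d_k i)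
  -- all arrows from points go to the other lifts
  have hall : ∀ p q, P.Out (P.k p) (P.d * P.k q) := fun p q => by
    by_cases hpq : p = q
    · subst hpq; exact hdk' p
    obtain ⟨r, hr, hd, e1, e2⟩ := P.move_two (Ne.symm hji) hpq
    have := P.out_map hr hv
    rwa [map_mul, hd, e1, e2] at this
  have hrel : ∀ {u v}, P.Out u v → ∀ w, P.Out u w → P.Out v (u * w) := fun h =>
    P.out_rec (Q := fun u v => ∀ w, P.Out u w → P.Out v (u * w)) (fun r hr u v q w h1 => by
      have h2 := P.out_map hr (q (r.symm w) (P.out_comap hr (by rw [r.apply_symm_apply]; exact h1)))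
      rwa [map_mul, r.apply_symm_apply] at h2) (fun p w hw => by
      obtain ⟨q, rfl⟩ := P.out_d.1 hw
      exact hall p q) h
  obtain ⟨p, hp⟩ := P.exists_ne i
  obtain ⟨q, hqi, hqp⟩ := P.exists_others i p
  have hin2 : ∀ l m, P.Out (P.d * P.k i) (P.k l * (P.d * P.k m)) := fun l m => hrel (hall l i) _ (hall l m)
  have hsub : Set.range (fun m => P.k i * (P.d * P.k m)) ⊆ {w | P.Out (P.d * P.k i) w} := by
    rintro _ ⟨m, rfl⟩; exact hin2 i m
  have e := Set.eq_of_subset_of_ncard_le hsub (le_of_eq (by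
    rw [P.out_card (hdk i), ← Nat.card_coe_set_eq,
      Nat.card_range_of_injective (fun a b h' => P.k_inj (mul_left_cancel (mul_left_cancel h'))),
      P.card_pts])) (Set.toFinite _)
  obtain ⟨m, hm⟩ : P.k p * (P.d * P.k q) ∈ Set.range fun m => P.k i * (P.d * P.k m) := by
    rw [e]; exact hin2 p q
  have hm' : P.ψ (P.k i * P.k m) = P.ψ (P.k p * P.k q) := by
    have := congrArg P.ψ hm
    simpa [map_mul, P.psi_d] using this
  by_cases him : i = m
  · subst him
    rw [P.sq, map_one] at hm'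
    exact P.ne_one {p, q} (by rw [Finset.card_pair hqp.symm]; norm_num) (by rw [Finset.card_pair hqp.symm]; norm_num)
      (by rw [Finset.prod_pair hqp.symm]; exact hm'.symm)
  rcases P.psi_pair_inj him hqp.symm hm' with ⟨h, -⟩ | ⟨h, -⟩
  exacts [hp h.symm, hqi h.symm]

/-- One lift over each element: two lifts over pairs as well force an invariant complement. -/
theorem exists_complement (hone : ∀ v ∈ P.Ω, P.d * v ∉ P.Ω) {b c : ℕ} (hb : b = 1) (hc : c ≤ 1)
    (hfb : ∀ s : Finset ι, s.card = 2 → P.fib (∏ i ∈ s, P.k i) = b)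
    (hfc : ∀ s : Finset ι, s.card = 3 → P.fib (∏ i ∈ s, P.k i) = c)
    (hcount : P.Ω.ncard = 1 + 22 + 231 * b + 770 * c) :
    ∃ H : Subgroup V, P.d ∉ H ∧ Nat.card ↥H = 2 ^ 10 ∧ ∀ r ∈ P.R, r P.d = P.d → ∀ x ∈ H, r x ∈ H := by
  classical
  haveI := Fintype.ofFinite V
  have hprod : ∀ u ∈ P.Ω, ∀ v ∈ P.Ω, u * v ∉ P.Ω := by
    intro u hu v hv h
    obtain ⟨r, hr, rfl⟩ := P.trans u hu
    have h1 := (P.mem_iff_of_eq (inv_mem hr) _).2 h
    have h2 := P.invariant r⁻¹ (inv_mem hr) _ hv
    rw [map_mul, MulAut.inv_apply, MulAut.inv_apply, r.symm_apply_apply] at h1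
    exact hone _ h2 h1
  rcases Nat.eq_zero_or_pos c with hc0 | hc1
  · -- no trios
    exfalso
    have hsymm : ∀ {u v}, P.Out u v → P.Out v u := by
      rcases P.in_cases hk with h | h
      · exact fun q => P.out_rec (Q := fun u v => P.Out v u) (fun r hr _ _ q' => P.out_map hr q') h q
      · obtain ⟨i⟩ := P.exists_pt
        exact absurd (P.mem_left (h i)) (hone _ (hk i))
    have hpair : ∀ p q, p ≠ q → P.d * (P.k p * P.k q) ∈ P.Ω := fun p q hpq => by
      have := hfb {p, q} (Finset.card_pair hpq)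
      rw [Finset.prod_pair hpq, hb] at this
      unfold fib at this
      rw [if_neg (hprod _ (hk p) _ (hk q))] at this
      by_contra h
      rw [if_neg h] at this
      omega
    obtain ⟨i⟩ := P.exists_pt
    obtain ⟨v, hv, hv1, hv2⟩ := P.exists_other hk i
    obtain ⟨j, hji, hj⟩ := P.near hk i hv hv1 hv2
    rcases hj with rfl | rfl | rfl | rfl
    · -- cliques of 23
      have hclique : ∀ {u v}, P.Out u v → ∀ w, P.Out u w → v ≠ w → P.Out v w := fun h =>
        P.out_rec (Q := fun u v => ∀ w, P.Out u w → v ≠ w → P.Out v w) (fun r hr u v q w h1 h2 => by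
          have h3 := P.out_map hr (q (r.symm w) (P.out_comap hr (by rw [r.apply_symm_apply]; exact h1))
            (fun e => h2 (by rw [e, r.apply_symm_apply])))
          rwa [r.apply_symm_apply] at h3) (fun p w hw hne => by
          obtain ⟨q, rfl⟩ := P.out_d.1 hw
          obtain ⟨r, hr, -, e1, e2⟩ := P.move_two (Ne.symm hji) (a' := p) (b' := q) (fun e => hne (by rw [e]))
          have := P.out_map hr hv
          rwa [e1, e2] at this) h
      set f : V → Set V := fun u => insert u {w | P.Out u w}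
      have hf : ∀ u ∈ P.Ω, (f u).ncard = 23 := fun u hu => by
        show (insert u {w | P.Out u w}).ncard = 23
        rw [Set.ncard_insert_of_notMem (show u ∉ {w | P.Out u w} from P.out_irrefl u) (Set.toFinite _),
          P.out_card hu]
      have hsame : ∀ u ∈ P.Ω, ∀ w, P.Out u w → f u = f w := fun u hu w huw => by
        refine Set.eq_of_subset_of_ncard_le ?_ (le_of_eq (by rw [hf u hu, hf w (P.mem_right hk huw)]))
          (Set.toFinite _)
        rintro x (rfl | hx)
        · exact Or.inr (hsymm huw)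
        · by_cases hwx : w = x
          · exact Or.inl hwx.symm
          · exact Or.inr (hclique huw x hx hwx)
      set S := Finset.univ.filter fun v => v ∈ P.Ω
      have hS : ∀ {v}, v ∈ S ↔ v ∈ P.Ω := fun {v} => by simp [S]
      have hfib : ∀ y ∈ S.image f, (S.filter fun x => f x = y).card = 23 := by
        intro y hy
        obtain ⟨u, hu, rfl⟩ := Finset.mem_image.1 hy
        rw [← hf u (hS.1 hu), ← Set.ncard_coe_finset, Finset.coe_filter]
        refine congrArg Set.ncard (Set.ext fun x => ⟨fun h => h.2 ▸ Set.mem_insert x _, ?_⟩)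
        rintro (rfl | hx)
        · exact ⟨hu, rfl⟩
        · exact ⟨hS.2 (P.mem_right hk hx), (hsame u (hS.1 hu) x hx).symm⟩
      have e := Finset.card_eq_sum_card_image f S
      rw [Finset.sum_congr rfl hfib, Finset.sum_const, smul_eq_mul,
        show S.card = P.Ω.ncard by rw [← Set.ncard_coe_finset, Finset.coe_filter]; simp,
        hcount, hb, hc0] at e
      omega
    · exact hone _ (hk j) (P.mem_right hk hv)
    · exact hprod _ (hk i) _ (hk j) (P.mem_right hk hv)
    · -- a trio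
      obtain ⟨l, hli, hlj⟩ := P.exists_others i j
      have hrel : ∀ {u v}, P.Out u v → ∀ w, P.Out u w → v ≠ w → u * v * w ∈ P.Ω := fun h =>
        P.out_rec (Q := fun u v => ∀ w, P.Out u w → v ≠ w → u * v * w ∈ P.Ω) (fun r hr u v q w h1 h2 => by
          have h3 := P.invariant r hr _ (q (r.symm w) (P.out_comap hr (by rw [r.apply_symm_apply]; exact h1))
            (fun e => h2 (by rw [e, r.apply_symm_apply])))
          rwa [map_mul, map_mul, r.apply_symm_apply] at h3) (fun p w hw hne => by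
          obtain ⟨q, rfl⟩ := P.out_d.1 hw
          rw [mul_assoc]
          exact hpair p q fun e => hne (by rw [e])) h
      have hl : P.Out (P.k i) (P.d * (P.k i * P.k l)) := by
        obtain ⟨r, hr, hd, e1, e2⟩ := P.move_two (Ne.symm hji) (a' := i) (b' := l) hli.symm
        have := P.out_map hr hv
        rwa [map_mul, map_mul, hd, e1, e2] at this
      have hne : P.d * (P.k i * P.k j) ≠ P.d * (P.k i * P.k l) := fun e =>
        hlj (P.k_inj (mul_left_cancel (mul_left_cancel e))).symm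
      have hmem := hrel hv _ hl hne
      have e : P.k i * (P.d * (P.k i * P.k j)) * (P.d * (P.k i * P.k l)) = P.k i * (P.k j * P.k l) := by
        calc _ = P.k i * P.k i * (P.d * P.d) * (P.k i * (P.k j * P.k l)) := by ac_rfl
          _ = _ := by rw [P.sq, P.sq, one_mul, one_mul]
      rw [e] at hmem
      have h3 := hfc {i, j, l} (Finset.card_eq_three.2 ⟨i, j, l, hji.symm, hli.symm, hlj.symm, rfl⟩)
      rw [Finset.prod_insert (by simp [hji.symm, hli.symm]), Finset.prod_pair hlj.symm] at h3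
      have := P.fib_pos hmem
      omega
  · -- an invariant complement
    have hΩ : P.Ω.ncard = 1024 := by rw [hcount, hb, show c = 1 by omega]
    set T : Set V := P.Ωᶜ
    have hT : T.ncard = 1024 := by
      rw [Set.ncard_compl P.Ω (Set.toFinite _), hΩ, P.card_space]; norm_num
    have himg : ∀ u ∈ P.Ω, (fun v => u * v) '' P.Ω = T := fun u hu => by
      refine Set.eq_of_subset_of_ncard_le ?_ ?_ (Set.toFinite _)
      · rintro _ ⟨v, hv, rfl⟩; exact hprod u hu v hv
      · rw [hT, Set.ncard_image_of_injective _ (mul_right_injective u), hΩ]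
    let H : Subgroup V :=
      { carrier := T
        one_mem' := P.one_notMem
        mul_mem' := fun {s s'} hs hs' => by
          rw [← himg P.d P.d_mem] at hs
          obtain ⟨y, hy, rfl⟩ := hs
          rw [← himg y hy] at hs'
          obtain ⟨u, hu, rfl⟩ := hs'
          show P.d * y * (y * u) ∈ T
          rw [mul_assoc, P.mul_cancel_self, ← himg P.d P.d_mem]
          exact ⟨u, hu, rfl⟩
        inv_mem' := fun {s} hs => by rwa [inv_eq_of_mul_eq_one_right (P.sq s)] }
    exact ⟨H, fun h => h P.d_mem, (Nat.card_coe_set_eq T).trans (hT.trans (by norm_num)),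
      fun r hr _ x hx => P.not_mem_of_eq hr hx⟩

omit hk in
/-- There are exactly 23. -/
theorem ncard_orbit (hne : ∃ v ∈ P.Ω, v ≠ P.d)
    (hno : ∀ H : Subgroup V, P.d ∉ H → Nat.card ↥H = 2 ^ 10 →
      (∀ r ∈ P.R, r P.d = P.d → ∀ x ∈ H, r x ∈ H) → False) : P.Ω.ncard = 23 := by
  classical
  haveI := Fintype.ofFinite ι
  obtain ⟨i⟩ := P.exists_pt
  obtain ⟨j, hj⟩ := P.exists_ne i
  obtain ⟨l, hli, hlj⟩ := P.exists_others i j
  set a := P.fib (∏ p ∈ ({i} : Finset ι), P.k p) with hadef
  set b := P.fib (∏ p ∈ ({i, j} : Finset ι), P.k p)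
  set c := P.fib (∏ p ∈ ({i, j, l} : Finset ι), P.k p)
  have c1 : ({i} : Finset ι).card = 1 := rfl
  have c2 : ({i, j} : Finset ι).card = 2 := Finset.card_pair hj.symm
  have c3 : ({i, j, l} : Finset ι).card = 3 := Finset.card_eq_three.2 ⟨i, j, l, hj.symm, hli.symm, hlj.symm, rfl⟩
  have ha : ∀ s : Finset ι, s.card = 1 → P.fib (∏ p ∈ s, P.k p) = a := fun s hs =>
    P.fib_set (by rw [c1]) (by rw [c1]; norm_num) (hs.trans c1.symm)
  have hb : ∀ s : Finset ι, s.card = 2 → P.fib (∏ p ∈ s, P.k p) = b := fun s hs =>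
    P.fib_set (by rw [c2]; norm_num) (by rw [c2]; norm_num) (hs.trans c2.symm)
  have hc : ∀ s : Finset ι, s.card = 3 → P.fib (∏ p ∈ s, P.k p) = c := fun s hs =>
    P.fib_set (by rw [c3]; norm_num) (by rw [c3]) (hs.trans c3.symm)
  have hcount := P.card_orbit ha hb hc
  have hdvd := P.count_dvd
  rw [hcount] at hdvd
  have hpt : ∀ p, P.fib (P.k p) = a := fun p => by simpa using ha {p} rfl
  rcases P.count_cases (a := a) (b := b) (c := c) (P.fib_le _) (P.fib_le _) (P.fib_le _) hdvd with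
    ⟨ea, eb, ec⟩ | ⟨ea, eb, ec⟩ | h | h | ea
  · exfalso
    obtain ⟨v, hv, hvd⟩ := hne
    have := Set.ncard_le_ncard (show ({P.d, v} : Set V) ⊆ P.Ω from
      Set.insert_subset P.d_mem (Set.singleton_subset_iff.2 hv)) (Set.toFinite _)
    rw [Set.ncard_pair hvd.symm, hcount, ea, eb, ec] at this
    omega
  · rw [hcount, ea, eb, ec]
  case inr.inr.inr.inr =>
    exfalso
    have both : ∀ p, P.k p ∈ P.Ω ∧ P.d * P.k p ∈ P.Ω := fun p => by
      have e : P.fib (P.k p) = 2 := (hpt p).trans ea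
      unfold fib at e
      constructor <;> by_contra h <;> rw [if_neg h] at e <;> split at e <;> omega
    exact P.not_both (fun p => (both p).1) fun p => (both p).2
  all_goals
    obtain ⟨ea, eb, ec⟩ := h
    exfalso
    have hone : ∀ v ∈ P.Ω, P.d * v ∉ P.Ω := fun v hv hdv => by
      by_cases h1 : P.ψ v = 1
      · rcases (P.ker_iff v).1 h1 with rfl | rfl
        · exact P.one_notMem hv
        · exact P.one_notMem (P.sq P.d ▸ hdv)
      obtain ⟨s, hs1, hs3, e⟩ := P.cls v h1
      have := (P.fib_psi e).trans (P.fib_two hv hdv)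
      rcases (show s.card = 1 ∨ s.card = 2 ∨ s.card = 3 by omega) with q | q | q
      · rw [ha s q] at this; omega
      · rw [hb s q] at this; omega
      · rw [hc s q] at this; omega
    have hfl : ∀ (s : Finset ι), 1 ≤ s.card → s.card ≤ 3 →
        P.flip.fib (∏ p ∈ s, P.flip.k p) = P.fib (∏ p ∈ s, P.k p) := fun s _ _ => P.fib_psi (by
      show P.ψ (∏ p ∈ s, P.d * P.k p) = _
      simp [map_prod, P.psi_d])
    by_cases hki : P.k i ∈ P.Ω
    · have hall : ∀ p, P.k p ∈ P.Ω := fun p => by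
        obtain ⟨r, hr, -, e⟩ := P.move_one i p
        exact e ▸ P.invariant r hr _ hki
      obtain ⟨H, h1, h2, h3⟩ := P.exists_complement hall hone eb (by omega) hb hc (by rw [hcount, ea])
      exact hno H h1 h2 h3
    · have hdki : P.d * P.k i ∈ P.Ω := by
        have e := (hpt i).trans ea
        unfold fib at e
        rw [if_neg hki] at e
        by_contra h
        rw [if_neg h] at e
        omega
      have hall : ∀ p, P.flip.k p ∈ P.flip.Ω := fun p => by
        obtain ⟨r, hr, hd, e⟩ := P.move_one i p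
        show P.d * P.k p ∈ P.Ω
        have := P.invariant r hr _ hdki
        rwa [map_mul, hd, e] at this
      obtain ⟨H, h1, h2, h3⟩ := P.flip.exists_complement hall hone eb (c := c) (by omega)
        (fun s hs => (hfl s (by omega) (by omega)).trans (hb s hs))
        (fun s hs => (hfl s (by omega) (by omega)).trans (hc s hs)) (by
          show P.Ω.ncard = _
          rw [hcount, ea])
      exact hno H h1 h2 h3

end Config

end CfsgLib.DoubleM22
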