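import Cfsg.Agent.Spor3T.M22DoubleCover
import Cfsg.Agent.Spor3T.M22Order
import Cfsg.Agent.Spor3T.M22Thompson
import Cfsg.Agent.Spor3T.M22Clique

/-!
A perfect double cover of a group of type M(22): lifts of members, and the preimages of the groups generated
by 22 commuting members.
-/

set_option autoImplicit false
set_option linter.unusedSectionVars false
set_option linter.style.haveILetI false

namespace CfsgLib.DoubleM22

open CfsgLib.ThreeT CfsgLib.ThreeT.Prod

/-- A perfect double cover of a group of type M(22). -/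
structure Cover {Q : Type*} [Group Q] (D : Set Q) (C : Type*) [Group C] where
  /-- The projection. -/
  ψ : C →* Q
  surj : Function.Surjective ψ
  /-- The central involution. -/
  z : C
  z_ne : z ≠ 1
  ker_iff : ∀ x, ψ x = 1 ↔ x = 1 ∨ x = z
  central : ∀ x, z * x = x * z
  perfect : commutator C = ⊤
  geo : Geo22 D
  prim : Cfsg.IsPrimitiveUnderConj D
  type22 : Cfsg.IsOfTypeM22 Q D

/-- Twenty-two commuting members. -/
structure IsClique {Q : Type*} [Group Q] (D Cl : Set Q) : Prop where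
  comm : ∀ x ∈ Cl, ∀ y ∈ Cl, Commute x y
  sub : Cl ⊆ D
  card : Cl.ncard = 22

variable {Q : Type*} [Group Q] [Finite Q] {D : Set Q}

theorem elementary_closure {G : Type*} [Group G] {L : Set G} (hc : ∀ x ∈ L, ∀ y ∈ L, Commute x y)
    (h2 : ∀ x ∈ L, x * x = 1) :
    (∀ x ∈ Subgroup.closure L, ∀ y ∈ Subgroup.closure L, x * y = y * x) ∧
      ∀ x ∈ Subgroup.closure L, x * x = 1 := by
  have hcc : ∀ x ∈ Subgroup.closure L, ∀ y ∈ Subgroup.closure L, x * y = y * x := fun x hx y hy =>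
    ((commute_of_closure (fun b hb => (commute_of_closure (fun a ha => hc a ha b hb) x hx).symm) y hy).symm).eq
  refine ⟨hcc, fun x hx => ?_⟩
  induction hx using Subgroup.closure_induction with
  | mem y hy => exact h2 y hy
  | one => exact one_mul 1
  | mul u v hu hv hu2 hv2 =>
    rw [← pow_two, (show Commute u v from hcc u hu v hv).mul_pow, pow_two, pow_two, hu2, hv2, one_mul]
  | inv u _ hu => rw [← mul_inv_rev, hu, inv_one]

theorem isPGroup_of_sq {G : Type*} [Group G] {H : Subgroup G} (h2 : ∀ x ∈ H, x * x = 1) : IsPGroup 2 ↥H :=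
  fun g => ⟨1, Subtype.ext (by simpa [pow_two] using h2 g g.2)⟩

namespace IsClique

variable {Cl : Set Q} (hCl : IsClique D Cl) (h : Geo22 D)

include hCl h

theorem elementary : (∀ x ∈ Subgroup.closure Cl, ∀ y ∈ Subgroup.closure Cl, x * y = y * x) ∧
    ∀ x ∈ Subgroup.closure Cl, x * x = 1 :=
  elementary_closure hCl.comm fun x hx => h.tt.sq x (hCl.sub hx)

theorem mem_of_closure {x : Q} (hx : x ∈ D) (hxc : x ∈ Subgroup.closure Cl) : x ∈ Cl :=
  clique_max hCl.comm h hCl.sub hCl.card hx fun v hv =>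
    ((hCl.elementary h).1 x hxc v (Subgroup.subset_closure hv))

theorem eq_of_commute {Cl' : Set Q} (hCl' : IsClique D Cl') (hc : ∀ x ∈ Cl, ∀ y ∈ Cl', Commute x y) :
    Cl = Cl' := by
  refine Set.eq_of_subset_of_ncard_le (fun x hx => ?_) (by rw [hCl.card, hCl'.card]) (Set.toFinite _)
  exact clique_max hCl'.comm h hCl'.sub hCl'.card (hCl.sub hx) fun v hv => hc x hx v hv

theorem eq_sylow {T : Sylow 2 Q} (hT : ∀ x ∈ Cl, x ∈ (T : Subgroup Q)) : Cl = {x | x ∈ D ∧ x ∈ (T : Subgroup Q)} := by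
  obtain ⟨d, hd⟩ : Cl.Nonempty := Set.nonempty_of_ncard_ne_zero (by rw [hCl.card]; norm_num)
  obtain ⟨hc, hn⟩ := sylow_clique h (hCl.sub hd) T
  exact Set.eq_of_subset_of_ncard_le (fun x hx => ⟨hCl.sub hx, hT x hx⟩) (by rw [hCl.card, hn]) (Set.toFinite _)

omit hCl in
theorem of_sylow (T : Sylow 2 Q) : IsClique D {x | x ∈ D ∧ x ∈ (T : Subgroup Q)} := by
  obtain ⟨d, hd⟩ := h.class3.2.1
  have hd' : d ∈ D := hd.1
  obtain ⟨hc, hn⟩ := sylow_clique h hd' T
  exact ⟨hc, fun x hx => hx.1, hn⟩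

theorem conj (g : Q) : IsClique D ((fun x => g * x * g⁻¹) '' Cl) where
  comm := by
    rintro _ ⟨x, hx, rfl⟩ _ ⟨y, hy, rfl⟩
    exact (commute_conj_iff g x y).2 (hCl.comm x hx y hy)
  sub := by rintro _ ⟨x, hx, rfl⟩; exact h.tt.conj g x (hCl.sub hx)
  card := by
    rw [Set.ncard_image_of_injective _ fun a b e => mul_left_cancel (mul_right_cancel e), hCl.card]

/-- Fusion of commuting members is effected by elements carrying one set of 22 to the other. -/
theorem exists_move {Cl' : Set Q} (hCl' : IsClique D Cl') {L : Set Q} (hL : L ⊆ Cl) (g : Q)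
    (hg : ∀ x ∈ L, g * x * g⁻¹ ∈ Cl') :
    ∃ n : Q, (fun x => n * x * n⁻¹) '' Cl = Cl' ∧ ∀ x ∈ L, n * x * n⁻¹ = g * x * g⁻¹ := by
  haveI : Fact (Nat.Prime 2) := ⟨Nat.prime_two⟩
  set M := Subgroup.centralizer L
  set Cl'' := (fun x => g⁻¹ * x * g⁻¹⁻¹) '' Cl'
  have hCl'' : IsClique D Cl'' := hCl'.conj h g⁻¹
  have hclique : ∀ {K : Set Q}, IsClique D K → L ⊆ K →
      Subgroup.closure K ≤ M ∧ IsPGroup 2 ↥((Subgroup.closure K).subgroupOf M) := by
    intro K hK hLK
    refine ⟨fun x hx => Subgroup.mem_centralizer_iff.2 fun l hl =>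
      (hK.elementary h).1 l (Subgroup.subset_closure (hLK hl)) x hx, isPGroup_of_sq fun x hx => Subtype.ext ?_⟩
    exact (hK.elementary h).2 _ hx
  obtain ⟨hK1, hP1⟩ := hclique hCl hL
  obtain ⟨hK2, hP2⟩ := hclique hCl'' fun x hx => ⟨g * x * g⁻¹, hg x hx, by group⟩
  obtain ⟨T1, hT1⟩ := hP1.exists_le_sylow
  obtain ⟨T2, hT2⟩ := hP2.exists_le_sylow
  obtain ⟨c, hc⟩ := MulAction.exists_smul_eq ↥M T1 T2
  have hT : IsPGroup 2 ↥((T2 : Subgroup ↥M).map M.subtype) := T2.isPGroup'.map _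
  have heq : (fun x => (c : Q) * x * (c : Q)⁻¹) '' Cl = Cl'' := by
    refine (hCl.conj h c).eq_of_commute h hCl'' ?_
    rintro _ ⟨x, hx, rfl⟩ y hy
    refine commute_of_two_group h.class3.1 (h.tt.conj _ x (hCl.sub hx)) (hCl''.sub hy) hT ?_ ?_
    · refine ⟨c * ⟨x, hK1 (Subgroup.subset_closure hx)⟩ * c⁻¹, ?_, rfl⟩
      rw [← hc]
      exact Subgroup.smul_mem_pointwise_smul _ (MulAut.conj c) _ (hT1 (Subgroup.subset_closure hx))
    · exact ⟨⟨y, hK2 (Subgroup.subset_closure hy)⟩, hT2 (Subgroup.subset_closure hy), rfl⟩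
  refine ⟨g * c, ?_, fun x hx => ?_⟩
  · have : (fun x => g * (c : Q) * x * (g * (c : Q))⁻¹) = (fun x => g * x * g⁻¹) ∘ fun x => (c : Q) * x * (c : Q)⁻¹ := by
      funext x; simp [mul_assoc]
    rw [this, Set.image_comp, heq, Set.image_image]
    exact (Set.image_congr fun x _ => show g * (g⁻¹ * x * g⁻¹⁻¹) * g⁻¹ = x by group).trans (Set.image_id' Cl')
  · have e := Subgroup.mem_centralizer_iff.1 c.2 x hx
    calc g * (c : Q) * x * (g * (c : Q))⁻¹ = g * ((c : Q) * x) * (c : Q)⁻¹ * g⁻¹ := by group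
      _ = g * (x * c) * (c : Q)⁻¹ * g⁻¹ := by rw [e]
      _ = g * x * g⁻¹ := by group

/-- The group generated has order 1024. -/
theorem card_closure (hp : Cfsg.IsPrimitiveUnderConj D) (ht : Cfsg.IsOfTypeM22 Q D) :
    Nat.card ↥(Subgroup.closure Cl) = 1024 := by
  classical
  haveI := Fintype.ofFinite Q
  haveI := Fintype.ofFinite ↥Cl
  refine le_antisymm ?_ (card_closure_ge hCl.comm h hp ht hCl.sub hCl.card)
  set P := fun k => (Finset.univ : Finset ↥Cl).powersetCard k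
  set f := cprod hCl.comm
  have hS := sys22 hCl.comm h hCl.sub hCl.card
  have hcard : ∀ k, (P k).card = Nat.choose 22 k := fun k => by
    rw [Finset.card_powersetCard, Finset.card_univ, hS.card]
  have h3 : 2 * ((P 3).image f).card ≤ (P 3).card := by
    refine Finset.mul_card_image_le_card _ 2 fun y hy => ?_
    obtain ⟨s, hs, rfl⟩ := Finset.mem_image.1 hy
    have hs3 := (Finset.mem_powersetCard.1 hs).2
    obtain ⟨a, b, c, hab, hac, hbc, rfl⟩ := Finset.card_eq_three.1 hs3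
    obtain ⟨H, hH, ha, hb, hc⟩ := hS.ex hab hac hbc
    have hsub : ({a, b, c} : Finset ↥Cl) ⊆ H := by simp [Finset.insert_subset_iff, ha, hb, hc]
    have hd : Disjoint ({a, b, c} : Finset ↥Cl) (H \ {a, b, c}) := Finset.disjoint_sdiff
    have ht3 : (H \ {a, b, c}).card = 3 := by rw [Finset.card_sdiff_of_subset hsub, hH.1, hs3]
    have hprod := hH.2
    rw [← Finset.union_sdiff_of_subset hsub, cprod_union hCl.comm hd] at hprod
    have e : f (H \ {a, b, c}) = f {a, b, c} := by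
      show cprod hCl.comm _ = cprod hCl.comm _
      rw [← mul_eq_one_iff_inv_eq.1 hprod]
      exact mul_eq_one_iff_inv_eq.1 (cprod_sq hCl.comm h hCl.sub _)
    have hne : H \ {a, b, c} ≠ {a, b, c} := fun q => by
      have : a ∈ H \ {a, b, c} := by rw [q]; simp
      simp at this
    refine le_trans (Finset.card_pair hne).ge (Finset.card_le_card ?_)
    simp only [Finset.insert_subset_iff, Finset.singleton_subset_iff, Finset.mem_filter]
    exact ⟨⟨Finset.mem_powersetCard.2 ⟨Finset.subset_univ _, ht3⟩, e⟩, hs, trivial⟩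
  have hsub : (Finset.univ.filter fun x => x ∈ Subgroup.closure Cl) ⊆
      insert 1 ((P 1).image f ∪ (P 2).image f ∪ (P 3).image f) := by
    intro x hx
    have hx' := (Finset.mem_filter.1 hx).2
    by_cases h1 : x = 1
    · rw [h1]; exact Finset.mem_insert_self _ _
    obtain ⟨s, s1, s3, rfl⟩ := exists_short_cprod hCl.comm h hp ht hCl.sub hCl.card
      ((hCl.elementary h).2 x hx') h1 fun v hv => (hCl.elementary h).1 x hx' v (Subgroup.subset_closure hv)
    have hs : s ∈ P s.card := Finset.mem_powersetCard.2 ⟨Finset.subset_univ _, rfl⟩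
    refine Finset.mem_insert_of_mem ?_
    simp only [Finset.mem_union, Finset.mem_image]
    rcases (show s.card = 1 ∨ s.card = 2 ∨ s.card = 3 by omega) with q | q | q <;> rw [q] at hs
    exacts [Or.inl (Or.inl ⟨s, hs, rfl⟩), Or.inl (Or.inr ⟨s, hs, rfl⟩), Or.inr ⟨s, hs, rfl⟩]
  have := Finset.card_le_card hsub
  have a1 := Finset.card_insert_le (1 : Q) ((P 1).image f ∪ (P 2).image f ∪ (P 3).image f)
  have a2 := Finset.card_union_le ((P 1).image f ∪ (P 2).image f) ((P 3).image f)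
  have a3 := Finset.card_union_le ((P 1).image f) ((P 2).image f)
  have a4 := Finset.card_image_le (s := P 1) (f := f)
  have a5 := Finset.card_image_le (s := P 2) (f := f)
  rw [hcard, show Nat.choose 22 1 = 22 from rfl] at a4
  rw [hcard, show Nat.choose 22 2 = 231 by decide] at a5
  rw [hcard, show Nat.choose 22 3 = 1540 by decide] at h3
  rw [Nat.card_eq_fintype_card, Fintype.card_subtype]
  omega

end IsClique

namespace Cover

variable {C : Type*} [Group C] [Finite C] (P : Cover D C)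

theorem phi_z : P.ψ P.z = 1 := (P.ker_iff _).2 (Or.inr rfl)

theorem z_sq : P.z * P.z = 1 := by
  rcases (P.ker_iff (P.z * P.z)).1 (by rw [map_mul, P.phi_z, one_mul]) with h | h
  · exact h
  · exact absurd (mul_eq_left.1 h) P.z_ne

theorem psi_zmul (x : C) : P.ψ (P.z * x) = P.ψ x := by rw [map_mul, P.phi_z, one_mul]

theorem conj_z (c : C) : c * P.z * c⁻¹ = P.z := by rw [← P.central, mul_inv_cancel_right]

theorem same_image {x y : C} (h : P.ψ x = P.ψ y) : y = x ∨ y = P.z * x := by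
  rcases (P.ker_iff (y * x⁻¹)).1 (by rw [map_mul, map_inv, h, mul_inv_cancel]) with e | e
  · exact Or.inl (mul_inv_eq_one.1 e)
  · exact Or.inr (mul_inv_eq_iff_eq_mul.1 e)

theorem ker_le_center : P.ψ.ker ≤ Subgroup.center C := fun x hx => by
  refine Subgroup.mem_center_iff.2 fun g => ?_
  rcases (P.ker_iff x).1 hx with rfl | rfl
  · rw [mul_one, one_mul]
  · exact (P.central g).symm

theorem ker_sq : ∀ x ∈ P.ψ.ker, x * x = 1 := fun x hx => by
  rcases (P.ker_iff x).1 hx with rfl | rfl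
  · exact one_mul 1
  · exact P.z_sq

theorem card_comap (H : Subgroup Q) : Nat.card ↥(H.comap P.ψ) = 2 * Nat.card ↥H := by
  have hk : Nat.card ↥P.ψ.ker = 2 := by
    refine Nat.card_eq_two_iff.2 ⟨⟨1, one_mem _⟩, ⟨P.z, P.phi_z⟩, fun e => P.z_ne (congrArg Subtype.val e).symm, ?_⟩
    refine Set.eq_univ_of_forall fun x => ?_
    rcases (P.ker_iff x.1).1 x.2 with e | e
    · exact Or.inl (Subtype.ext e)
    · exact Or.inr (Subtype.ext e)
  have h1 := Subgroup.card_mul_index (H.comap P.ψ)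
  rw [Subgroup.index_comap_of_surjective H P.surj,
    Subgroup.card_eq_card_quotient_mul_card_subgroup P.ψ.ker,
    Nat.card_congr (QuotientGroup.quotientKerEquivOfSurjective P.ψ P.surj).toEquiv, hk,
    ← Subgroup.card_mul_index H] at h1
  have hpos : 0 < H.index := Nat.pos_of_ne_zero Subgroup.index_ne_zero_of_finite
  exact Nat.eq_of_mul_eq_mul_right hpos (by rw [h1]; ring)

include P in
theorem center_hsub : ∀ a ∈ D, ∀ w ∈ Subgroup.center ↥(hsub D a), (w : Q) = 1 ∨ (w : Q) = a :=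
  fun a ha w hw => cent_nb P.geo ha (commute_hsub w.2).symm fun _ hy => commute_of_mem_center hw hy

include P in
/-- Neighbours' lifts are commutators up to the centre, so commute with the lift of their point. -/
theorem lift_comm_and_sq : (∀ {y z : C}, P.ψ y ∈ D → P.ψ z ∈ D → Commute (P.ψ y) (P.ψ z) → Commute y z) ∧
    ∀ {y : C}, P.ψ y ∈ D → y * y = 1 := by
  classical
  have h := P.geo
  obtain ⟨d, hd, ⟨l₆, hl6, hl6n, hl6c, hl6p⟩, hcomm, -⟩ :=
    M22Double.exists_data h.toSetup22 P.type22 P.center_hsub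
  have hD := h.tt
  have hker := P.ker_le_center
  have hexp := P.ker_sq
  obtain ⟨δ, hδ⟩ := P.surj d
  have hz : ∀ {g : C}, Commute (P.ψ g) d → g * δ * g⁻¹ * δ⁻¹ ∈ Subgroup.center C := fun {g} hg => hker (by
    rw [MonoidHom.mem_ker, map_mul, map_mul, map_mul, map_inv, map_inv, hδ, hg.eq]
    group)
  have hcd : ∀ {y : C}, P.ψ y ∈ nb D d → Commute y δ := fun {y} hy => by
    obtain ⟨a, ha, a', ha', hb⟩ := hcomm _ hy
    obtain ⟨A, rfl⟩ := P.surj a
    obtain ⟨A', rfl⟩ := P.surj a'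
    have hK := M22Double.commute_commutator (hz (commute_hsub ha)) (hz (commute_hsub ha'))
    rcases hb with hb | hb
    · have hk : (A * A' * A⁻¹ * A'⁻¹)⁻¹ * y ∈ P.ψ.ker := by
        rw [MonoidHom.mem_ker, map_mul, map_inv, inv_mul_eq_one]
        simp only [map_mul, map_inv]
        exact hb.symm
      have := hK.mul_left (((Subgroup.mem_center_iff.1 (hker hk)) δ).symm : Commute _ δ)
      rwa [mul_inv_cancel_left] at this
    · have hk : (A * A' * A⁻¹ * A'⁻¹ * δ)⁻¹ * y ∈ P.ψ.ker := by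
        simp [MonoidHom.mem_ker, hb, hδ, mul_assoc]
      have := (hK.mul_left (Commute.refl δ)).mul_left
        (((Subgroup.mem_center_iff.1 (hker hk)) δ).symm : Commute _ δ)
      rwa [mul_inv_cancel_left] at this
  have conj' : ∀ a ∈ D, ∃ g : Q, g * d * g⁻¹ = a := fun a ha =>
    h.conjD d hd a ha (h.ne_one d hd) (h.ne_one a ha)
  have hlift : ∀ {y z : C}, P.ψ y ∈ D → P.ψ z ∈ D → Commute (P.ψ y) (P.ψ z) → Commute y z := by
    intro y z hy hz' hc
    by_cases e : P.ψ y = P.ψ z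
    · have hk : z⁻¹ * y ∈ P.ψ.ker := by simp [MonoidHom.mem_ker, e]
      have := (Commute.refl z).mul_left (((Subgroup.mem_center_iff.1 (hker hk)) z).symm : Commute _ z)
      rwa [mul_inv_cancel_left] at this
    obtain ⟨g, hg⟩ := conj' _ hz'
    obtain ⟨γ, rfl⟩ := P.surj g
    set y' := γ⁻¹ * y * γ with hy'
    set z' := γ⁻¹ * z * γ with hz''
    have e1 : P.ψ z' = d := by rw [hz'', map_mul, map_mul, map_inv, ← hg]; group
    have hy'n : P.ψ y' ∈ nb D d := by
      refine ⟨by simpa [hy'] using hD.conj (P.ψ γ⁻¹) _ hy, fun e2 => e ?_, ?_⟩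
      · rw [← e1, hy', hz''] at e2
        simpa using e2
      · rw [← e1, hy', hz'', map_mul, map_mul, map_mul, map_mul, map_inv]
        simpa using (commute_conj_iff (P.ψ γ)⁻¹ _ _).2 hc.symm
    have hk : δ⁻¹ * z' ∈ P.ψ.ker := by simp [MonoidHom.mem_ker, e1, hδ]
    have := (hcd hy'n).mul_right (((Subgroup.mem_center_iff.1 (hker hk)) y') : Commute y' _)
    rw [mul_inv_cancel_left] at this
    have := (commute_conj_iff γ _ _).2 this
    simpa [hy', hz'', mul_assoc] using this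
  have hsq : ∀ {y : C}, P.ψ y ∈ D → y * y = δ * δ := by
    intro y hy
    obtain ⟨g, hg⟩ := conj' _ hy
    obtain ⟨γ, rfl⟩ := P.surj g
    have hk : y * (γ * δ * γ⁻¹)⁻¹ ∈ P.ψ.ker := by
      rw [MonoidHom.mem_ker, map_mul, map_inv, map_mul, map_mul, map_inv, hδ, hg, mul_inv_cancel]
    have hkc := Subgroup.mem_center_iff.1 (hker hk)
    have hδ2 : δ * δ ∈ P.ψ.ker := by rw [MonoidHom.mem_ker, map_mul, hδ, hD.sq d hd]
    calc y * y = (y * (γ * δ * γ⁻¹)⁻¹ * (γ * δ * γ⁻¹)) * (y * (γ * δ * γ⁻¹)⁻¹ * (γ * δ * γ⁻¹)) := by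
          rw [inv_mul_cancel_right]
      _ = y * (γ * δ * γ⁻¹)⁻¹ * (y * (γ * δ * γ⁻¹)⁻¹) * (γ * (δ * δ) * γ⁻¹) := by
          rw [(show Commute (γ * δ * γ⁻¹) (y * (γ * δ * γ⁻¹)⁻¹) from hkc _).mul_mul_mul_comm]; group
      _ = δ * δ := by
          rw [hexp _ hk, one_mul, Subgroup.mem_center_iff.1 (hker hδ2) γ, mul_inv_cancel_right]
  refine ⟨hlift, fun {y} hy => ?_⟩
  choose lift hlift' using P.surj
  have hp : P.ψ (l₆.map lift).prod = d := by
    rw [map_list_prod, List.map_map, show P.ψ ∘ lift = id from funext hlift', List.map_id, hl6p]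
  have hpp := M22Double.mul_self_list (s := δ * δ) (l₆.map lift)
    (fun u hu => by
      obtain ⟨b, hb, rfl⟩ := List.mem_map.1 hu
      exact hsq (by rw [hlift']; exact (hl6n b hb).1))
    (fun u hu v hv => by
      obtain ⟨a, ha, rfl⟩ := List.mem_map.1 hu
      obtain ⟨b, hb, rfl⟩ := List.mem_map.1 hv
      exact hlift (by rw [hlift']; exact (hl6n a ha).1) (by rw [hlift']; exact (hl6n b hb).1)
        (by rw [hlift', hlift']; exact hl6c a ha b hb))
  have hk : δ * δ ∈ P.ψ.ker := by rw [MonoidHom.mem_ker, map_mul, hδ, hD.sq d hd]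
  rw [hsq (y := (l₆.map lift).prod) (by rw [hp]; exact hd), List.length_map, hl6,
    show (6 : ℕ) = 2 * 3 from rfl, pow_mul, pow_two, hexp _ hk, one_pow] at hpp
  rw [hsq hy, hpp]

/-- The centraliser of a lift of a member is the whole preimage. -/
theorem cent_lift {e c : C} (he : P.ψ e ∈ D) (hc : Commute (P.ψ c) (P.ψ e)) : Commute c e := by
  have hle : hsub D (P.ψ e) ≤ (Subgroup.centralizer ({e} : Set C)).map P.ψ := by
    refine (Subgroup.closure_le _).2 fun b hb => ?_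
    obtain ⟨y, rfl⟩ := P.surj b
    exact ⟨y, Subgroup.mem_centralizer_singleton_iff.2 (P.lift_comm_and_sq.1 hb.1 he hb.2.2.symm).eq, rfl⟩
  rw [(centralizer_eq P.geo he).1] at hle
  obtain ⟨y, hy, hyc⟩ := hle (Subgroup.mem_centralizer_singleton_iff.2 hc.eq)
  have hy' : Commute y e := Subgroup.mem_centralizer_singleton_iff.1 hy
  rcases P.same_image hyc with rfl | rfl
  · exact hy'
  · exact (show Commute P.z e from P.central e).mul_left hy'

/-- A lift of a member is not conjugate to the other one. -/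
theorem separation {e c : C} (he : P.ψ e ∈ D) : c * e * c⁻¹ ≠ P.z * e := by
  intro h
  have hc : Commute (P.ψ c) (P.ψ e) := by
    have := congrArg P.ψ h
    rw [map_mul, map_mul, map_inv, P.psi_zmul] at this
    exact mul_inv_eq_iff_eq_mul.1 this
  rw [(P.cent_lift he hc).eq, mul_inv_cancel_right] at h
  exact P.z_ne (mul_eq_right.1 h.symm)

/-- The lift in the class of `e₀`. -/
noncomputable def kk (e₀ : C) (p : Q) : C :=
  Classical.epsilon fun y => P.ψ y = p ∧ IsConj e₀ y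

theorem kk_spec {e₀ : C} (he : P.ψ e₀ ∈ D) {p : Q} (hp : p ∈ D) :
    P.ψ (P.kk e₀ p) = p ∧ IsConj e₀ (P.kk e₀ p) := by
  refine Classical.epsilon_spec (p := fun y => P.ψ y = p ∧ IsConj e₀ y) ?_
  obtain ⟨g, hg⟩ := P.geo.conjD _ he p hp (P.geo.ne_one _ he) (P.geo.ne_one p hp)
  obtain ⟨c, rfl⟩ := P.surj g
  exact ⟨c * e₀ * c⁻¹, by rw [map_mul, map_mul, map_inv, hg], isConj_iff.2 ⟨c, rfl⟩⟩

theorem kk_unique {e₀ : C} (he : P.ψ e₀ ∈ D) {y : C} (hy : P.ψ y ∈ D) (hc : IsConj e₀ y) :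
    P.kk e₀ (P.ψ y) = y := by
  obtain ⟨h1, h2⟩ := P.kk_spec he hy
  rcases P.same_image h1 with e | e
  · exact e.symm
  · exfalso
    rw [e] at hc
    obtain ⟨c, hc'⟩ := isConj_iff.1 (h2.symm.trans hc)
    exact P.separation (by rw [h1]; exact hy) hc'

theorem kk_self {e₀ : C} (he : P.ψ e₀ ∈ D) : P.kk e₀ (P.ψ e₀) = e₀ := P.kk_unique he he (IsConj.refl _)

theorem kk_conj {e₀ : C} (he : P.ψ e₀ ∈ D) {p : Q} (hp : p ∈ D) (c : C) :
    P.kk e₀ (P.ψ c * p * (P.ψ c)⁻¹) = c * P.kk e₀ p * c⁻¹ := by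
  obtain ⟨h1, h2⟩ := P.kk_spec he hp
  have e : P.ψ (c * P.kk e₀ p * c⁻¹) = P.ψ c * p * (P.ψ c)⁻¹ := by rw [map_mul, map_mul, map_inv, h1]
  rw [← e]
  exact P.kk_unique he (by rw [e]; exact P.geo.tt.conj _ p hp) (h2.trans (isConj_iff.2 ⟨c, rfl⟩))

/-- The preimage of the group generated by 22 commuting members. -/
def pre (Cl : Set Q) : Subgroup C := (Subgroup.closure Cl).comap P.ψ

theorem z_mem_pre (Cl : Set Q) : P.z ∈ P.pre Cl := by
  rw [pre, Subgroup.mem_comap, P.phi_z]; exact one_mem _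

theorem lift_mem_pre {Cl : Set Q} {e : C} (he : P.ψ e ∈ Cl) : e ∈ P.pre Cl := Subgroup.subset_closure he

variable {Cl : Set Q} (hCl : IsClique D Cl)

include hCl

theorem card_pre : Nat.card ↥(P.pre Cl) = 2048 := by
  rw [pre, P.card_comap, hCl.card_closure P.geo P.prim P.type22]

theorem pre_elementary : (∀ x ∈ P.pre Cl, ∀ y ∈ P.pre Cl, x * y = y * x) ∧ ∀ x ∈ P.pre Cl, x * x = 1 := by
  set L : Set C := {x | x = P.z ∨ P.ψ x ∈ Cl}
  have hle : P.pre Cl ≤ Subgroup.closure L := by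
    intro x hx
    have h : Subgroup.closure Cl ≤ (Subgroup.closure L).map P.ψ := by
      refine (Subgroup.closure_le _).2 fun b hb => ?_
      obtain ⟨y, rfl⟩ := P.surj b
      exact ⟨y, Subgroup.subset_closure (Or.inr hb), rfl⟩
    obtain ⟨y, hy, e⟩ := h hx
    rcases P.same_image e with rfl | rfl
    exacts [hy, mul_mem (Subgroup.subset_closure (Or.inl rfl)) hy]
  obtain ⟨hc, h2⟩ := elementary_closure (L := L) (fun x hx y hy => by
      rcases hx with rfl | hx
      · exact P.central y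
      rcases hy with rfl | hy
      · exact (P.central x).symm
      exact P.lift_comm_and_sq.1 (hCl.sub hx) (hCl.sub hy) (hCl.comm _ hx _ hy))
    (fun x hx => by
      rcases hx with rfl | hx
      · exact P.z_sq
      · exact P.lift_comm_and_sq.2 (hCl.sub hx))
  exact ⟨fun x hx y hy => hc x (hle hx) y (hle hy), fun x hx => h2 x (hle hx)⟩

omit hCl in
theorem pre_conj {Cl' : Set Q} {c : C} (h : (fun x => P.ψ c * x * (P.ψ c)⁻¹) '' Cl = Cl') :
    (P.pre Cl).map (MulAut.conj c).toMonoidHom = P.pre Cl' := by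
  have hmap : (Subgroup.closure Cl).map (MulAut.conj (P.ψ c)).toMonoidHom = Subgroup.closure Cl' := by
    rw [MonoidHom.map_closure]; exact congrArg Subgroup.closure h
  ext x
  constructor
  · rintro ⟨y, hy, rfl⟩
    show P.ψ (c * y * c⁻¹) ∈ Subgroup.closure Cl'
    rw [← hmap, map_mul, map_mul, map_inv]
    exact ⟨P.ψ y, hy, rfl⟩
  · intro hx
    have hx' : P.ψ x ∈ Subgroup.closure Cl' := hx
    rw [← hmap] at hx'
    obtain ⟨y, hy, e⟩ := hx'
    change P.ψ c * y * (P.ψ c)⁻¹ = P.ψ x at e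
    refine ⟨c⁻¹ * x * c, ?_, by show c * (c⁻¹ * x * c) * c⁻¹ = x; group⟩
    show P.ψ (c⁻¹ * x * c) ∈ Subgroup.closure Cl
    rw [map_mul, map_mul, map_inv, ← e, show (P.ψ c)⁻¹ * (P.ψ c * y * (P.ψ c)⁻¹) * P.ψ c = y by group]
    exact hy

/-- Elements normalising the preimage permute the members. -/
theorem image_of_normalizing {c : C} (hc : ∀ x ∈ P.pre Cl, c * x * c⁻¹ ∈ P.pre Cl) :
    (fun x => P.ψ c * x * (P.ψ c)⁻¹) '' Cl = Cl := by
  refine Set.eq_of_subset_of_ncard_le ?_ ?_ (Set.toFinite _)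
  · rintro _ ⟨p, hp, rfl⟩
    obtain ⟨y, rfl⟩ := P.surj p
    have := hc y (P.lift_mem_pre hp)
    change P.ψ (c * y * c⁻¹) ∈ Subgroup.closure Cl at this
    rw [map_mul, map_mul, map_inv] at this
    exact hCl.mem_of_closure P.geo (P.geo.tt.conj _ _ (hCl.sub hp)) this
  · rw [Set.ncard_image_of_injective _ fun a b e => mul_left_cancel (mul_right_cancel e)]

omit hCl in
/-- An elementary abelian subgroup inside the preimage of a Sylow 2-subgroup. -/
theorem elementary_le {B : Subgroup C} (T : Sylow 2 Q) (hB : ∀ b ∈ B, P.ψ b ∈ (T : Subgroup Q))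
    (hc : ∀ a ∈ B, ∀ b ∈ B, a * b = b * a) (h2 : ∀ a ∈ B, a * a = 1) :
    Nat.card ↥B ≤ 2048 ∧ (2048 ≤ Nat.card ↥B → B = P.pre {x | x ∈ D ∧ x ∈ (T : Subgroup Q)}) := by
  classical
  have hT := IsClique.of_sylow P.geo T
  haveI := Fintype.ofFinite ↥({x | x ∈ D ∧ x ∈ (T : Subgroup Q)} : Set Q)
  have hcard := P.card_pre hT
  by_cases hle : B ≤ P.pre {x | x ∈ D ∧ x ∈ (T : Subgroup Q)}
  · exact ⟨hcard ▸ Subgroup.card_le_of_le hle, fun h => Subgroup.eq_of_le_of_card_ge hle (hcard ▸ h)⟩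
  suffices h : Nat.card ↥B < 2048 from ⟨h.le, fun h' => absurd h' (not_le.2 h)⟩
  have h1 := offender hT.comm P.geo P.prim P.type22 hT.sub hT.card
    (A := B.map P.ψ)
    (by rintro _ ⟨a, ha, rfl⟩ _ ⟨b, hb, rfl⟩; exact (show Commute a b from hc a ha b hb).map P.ψ)
    (by rintro _ ⟨a, ha, rfl⟩; rw [← map_mul, h2 a ha, map_one])
    (by
      rintro _ ⟨a, ha, rfl⟩ x ⟨hx, hxT⟩
      exact ⟨P.geo.tt.conj _ x hx, mul_mem (mul_mem (hB a ha) hxT) (inv_mem (hB a ha))⟩)
    (fun h => hle (Subgroup.map_le_iff_le_comap.1 h))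
  rw [hT.card_closure P.geo P.prim P.type22] at h1
  have h3 : Nat.card ↥B ≤ Nat.card ↥((B.map P.ψ).comap P.ψ) := Subgroup.card_le_of_le (Subgroup.le_comap_map _ _)
  rw [P.card_comap] at h3
  omega

/-- The largest elementary abelian subgroups are conjugate. -/
theorem elementary_conj {B : Subgroup C} (hc : ∀ a ∈ B, ∀ b ∈ B, a * b = b * a) (h2 : ∀ a ∈ B, a * a = 1)
    (hB : 2048 ≤ Nat.card ↥B) : ∃ c : C, B.map (MulAut.conj c).toMonoidHom = P.pre Cl := by
  haveI : Fact (Nat.Prime 2) := ⟨Nat.prime_two⟩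
  obtain ⟨T, hT⟩ := (isPGroup_of_sq (H := B.map P.ψ) (by
    rintro _ ⟨a, ha, rfl⟩; rw [← map_mul, h2 a ha, map_one])).exists_le_sylow
  have e := (P.elementary_le T (fun b hb => hT ⟨b, hb, rfl⟩) hc h2).2 hB
  obtain ⟨n, hn, -⟩ := (IsClique.of_sylow P.geo T).exists_move P.geo hCl (Set.empty_subset _) 1
    (fun x hx => absurd hx (Set.notMem_empty x))
  obtain ⟨c, rfl⟩ := P.surj n
  exact ⟨c, by rw [e]; exact P.pre_conj hn⟩

/-- Every involution is conjugate into the preimage. -/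
theorem invol_into {x : C} (hx : x * x = 1) : ∃ c : C, c * x * c⁻¹ ∈ P.pre Cl := by
  haveI : Fact (Nat.Prime 2) := ⟨Nat.prime_two⟩
  by_cases h1 : P.ψ x = 1
  · refine ⟨1, ?_⟩
    show P.ψ (1 * x * 1⁻¹) ∈ Subgroup.closure Cl
    rw [one_mul, inv_one, mul_one, h1]; exact one_mem _
  obtain ⟨m, -, -, l, -, -, hm, hc, hl⟩ := invol_short P.geo P.prim P.type22
    (show P.ψ x * P.ψ x = 1 by rw [← map_mul, hx, map_one]) h1
  obtain ⟨T, hT⟩ := (isPGroup_of_sq (H := Subgroup.closure {a | a ∈ l})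
    (elementary_closure hc fun a ha => P.geo.tt.sq a (hm a ha)).2).exists_le_sylow
  obtain ⟨n, hn, -⟩ := (IsClique.of_sylow P.geo T).exists_move P.geo hCl (Set.empty_subset _) 1
    (fun x hx => absurd hx (Set.notMem_empty x))
  obtain ⟨c, rfl⟩ := P.surj n
  refine ⟨c, ?_⟩
  rw [← P.pre_conj hn]
  refine ⟨x, ?_, rfl⟩
  show P.ψ x ∈ Subgroup.closure _
  rw [← hl]
  exact list_prod_mem fun a ha => Subgroup.subset_closure ⟨hm a ha, hT (Subgroup.subset_closure ha)⟩

end Cover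

end CfsgLib.DoubleM22
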