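import Cfsg.Agent.DoubleM22.Cover
import Cfsg.Agent.SixPlane.NoSplit

/-!
In a perfect double cover of a group of type M(22) the preimage of the group generated by 22 commuting members
has no complement to the centre that is invariant under its normaliser.
-/

set_option autoImplicit false
set_option linter.unusedSectionVars false
set_option linter.style.haveILetI false

namespace CfsgLib.DoubleM22

open CfsgLib.ThreeT CfsgLib.ThreeT.Prod
open scoped Pointwise commutatorElement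

theorem prod_parity {G : Type*} [Group G] {S : Subgroup G} {z : G} (l : List G)
    (hc : ∀ s ∈ S, Commute z s) (hl : ∀ x ∈ l, x * z ∈ S) : l.prod * z ^ l.length ∈ S := by
  induction l with
  | nil => simp
  | cons a l ih =>
    have h1 := hl a List.mem_cons_self
    have h2 := ih fun x hx => hl x (List.mem_cons_of_mem _ hx)
    rw [List.prod_cons, List.length_cons, pow_succ', show a * l.prod * (z * z ^ l.length) =
      a * (l.prod * z ^ l.length) * (z ^ l.length)⁻¹ * z * z ^ l.length by group]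
    set w := l.prod * z ^ l.length
    have hzw : Commute z w := hc w h2
    rw [show a * w * (z ^ l.length)⁻¹ * z * z ^ l.length = a * (w * z) by group, ← hzw.eq, ← mul_assoc]
    exact mul_mem h1 h2

variable {Q : Type*} [Group Q] [Finite Q] {D : Set Q} {C : Type*} [Group C] [Finite C]

namespace Cover

variable (P : Cover D C)

/-- An invariant complement to the centre. -/
structure IsCompl (Cl : Set Q) (H : Subgroup C) : Prop where
  le : H ≤ P.pre Cl
  z_notMem : P.z ∉ H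
  card : Nat.card ↥H = 1024
  inv : ∀ c : C, (∀ x ∈ P.pre Cl, c * x * c⁻¹ ∈ P.pre Cl) → ∀ x ∈ H, c * x * c⁻¹ ∈ H

variable {P} {Cl : Set Q} (hCl : IsClique D Cl) {H : Subgroup C} (hH : P.IsCompl Cl H)

include hCl hH

theorem IsCompl.mem_or {x : C} (hx : x ∈ P.pre Cl) : x ∈ H ∨ P.z * x ∈ H := by
  have himg : H.map P.ψ = Subgroup.closure Cl := by
    refine Subgroup.eq_of_le_of_card_ge (Subgroup.map_le_iff_le_comap.2 hH.le) ?_
    rw [hCl.card_closure P.geo P.prim P.type22, ← hH.card]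
    refine Nat.card_le_card_of_injective (fun x : ↥H => (⟨P.ψ x, x, x.2, rfl⟩ : ↥(H.map P.ψ))) fun a b e => ?_
    rcases P.same_image (congrArg Subtype.val e : P.ψ a = P.ψ b) with q | q
    · exact Subtype.ext q.symm
    · refine absurd ?_ hH.z_notMem
      rw [show P.z = (b : C) * (a : C)⁻¹ by rw [q, mul_inv_cancel_right]]
      exact mul_mem b.2 (inv_mem a.2)
  have hx' : P.ψ x ∈ H.map P.ψ := by rw [himg]; exact hx
  obtain ⟨y, hy, e⟩ := hx'
  rcases P.same_image e with rfl | rfl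
  · exact Or.inl hy
  · exact Or.inr (by rwa [← mul_assoc, P.z_sq, one_mul])

/-- Complements exist for all sets of 22 once one exists. -/
theorem IsCompl.transfer {Cl' : Set Q} (hCl' : IsClique D Cl') : ∃ H', P.IsCompl Cl' H' := by
  obtain ⟨n, hn, -⟩ := hCl.exists_move P.geo hCl' (Set.empty_subset _) 1
    (fun x hx => absurd hx (Set.notMem_empty x))
  obtain ⟨c, rfl⟩ := P.surj n
  have e := P.pre_conj hn
  refine ⟨H.map (MulAut.conj c).toMonoidHom, e ▸ Subgroup.map_mono hH.le, ?_,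
    by rw [Subgroup.card_map_of_injective (MulAut.conj c).injective, hH.card], ?_⟩
  · rintro ⟨y, hy, hyz⟩
    change c * y * c⁻¹ = P.z at hyz
    refine hH.z_notMem ?_
    rw [← P.conj_z c⁻¹, inv_inv, ← hyz, show c⁻¹ * (c * y * c⁻¹) * c = y by group]
    exact hy
  · rintro m hm _ ⟨y, hy, rfl⟩
    refine ⟨c⁻¹ * m * c * y * (c⁻¹ * m * c)⁻¹, hH.inv _ (fun x hx => ?_) y hy, ?_⟩
    · obtain ⟨w, hw, ew⟩ := (e.symm ▸ hm _ (e ▸ Subgroup.mem_map_of_mem _ hx) :
        m * (MulAut.conj c).toMonoidHom x * m⁻¹ ∈ (P.pre Cl).map (MulAut.conj c).toMonoidHom)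
      change c * w * c⁻¹ = m * (c * x * c⁻¹) * m⁻¹ at ew
      rw [show c⁻¹ * m * c * x * (c⁻¹ * m * c)⁻¹ = c⁻¹ * (m * (c * x * c⁻¹) * m⁻¹) * c by group, ← ew,
        show c⁻¹ * (c * w * c⁻¹) * c = w by group]
      exact hw
    · show c * (c⁻¹ * m * c * y * (c⁻¹ * m * c)⁻¹) * c⁻¹ = m * (c * y * c⁻¹) * m⁻¹
      group

/-- An even number of members with product one lift to product one. -/
theorem IsCompl.relation {e₀ : C} (he : P.ψ e₀ ∈ D) {l : List Q} (hl : ∀ x ∈ l, x ∈ Cl)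
    (hlen : Even l.length) (hp : l.prod = 1) : (l.map (P.kk e₀)).prod = 1 := by
  obtain ⟨p, hp0⟩ : Cl.Nonempty := Set.nonempty_of_ncard_ne_zero (by rw [hCl.card]; norm_num)
  have hpre : ∀ q ∈ Cl, P.kk e₀ q ∈ P.pre Cl := fun q hq =>
    P.lift_mem_pre (by rw [(P.kk_spec he (hCl.sub hq)).1]; exact hq)
  have hmove : ∀ q ∈ Cl, ∃ c : C, (∀ x ∈ P.pre Cl, c * x * c⁻¹ ∈ P.pre Cl) ∧
      c * P.kk e₀ p * c⁻¹ = P.kk e₀ q := by
    intro q hq
    obtain ⟨g, hg⟩ := P.geo.conjD p (hCl.sub hp0) q (hCl.sub hq) (P.geo.ne_one p (hCl.sub hp0))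
      (P.geo.ne_one q (hCl.sub hq))
    obtain ⟨n, hn, hn'⟩ := hCl.exists_move P.geo hCl (L := {p}) (Set.singleton_subset_iff.2 hp0) g
      (fun x hx => by rw [Set.mem_singleton_iff.1 hx, hg]; exact hq)
    obtain ⟨c, rfl⟩ := P.surj n
    refine ⟨c, fun x hx => ?_, ?_⟩
    · have : (MulAut.conj c).toMonoidHom x ∈ P.pre Cl := P.pre_conj hn ▸ Subgroup.mem_map_of_mem _ hx
      exact this
    · rw [← P.kk_conj he (hCl.sub hp0), hn' p rfl, hg]
  have hmem : (l.map (P.kk e₀)).prod ∈ H := by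
    rcases hH.mem_or hCl (hpre p hp0) with h | h
    · refine list_prod_mem fun x hx => ?_
      obtain ⟨q, hq, rfl⟩ := List.mem_map.1 hx
      obtain ⟨c, hc, e⟩ := hmove q (hl q hq)
      exact e ▸ hH.inv c hc _ h
    · have := prod_parity (S := H) (z := P.z) (l.map (P.kk e₀)) (fun s _ => P.central s) fun x hx => by
        obtain ⟨q, hq, rfl⟩ := List.mem_map.1 hx
        obtain ⟨c, hc, e⟩ := hmove q (hl q hq)
        rw [← P.central, ← e, show P.z * (c * P.kk e₀ p * c⁻¹) = c * (P.z * P.kk e₀ p) * c⁻¹ by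
          rw [← mul_assoc, ← mul_assoc, P.central c, mul_assoc c P.z]]
        exact hH.inv c hc _ h
      obtain ⟨k, hk⟩ := hlen
      rwa [List.length_map, hk, ← two_mul, pow_mul, pow_two, P.z_sq, one_pow, mul_one] at this
  have hψ : P.ψ (l.map (P.kk e₀)).prod = 1 := by
    rw [map_list_prod, List.map_map, List.map_congr_left (f := P.ψ ∘ P.kk e₀) (g := id)
      fun q hq => (P.kk_spec he (hCl.sub (hl q hq))).1, List.map_id, hp]
  exact ((P.ker_iff _).1 hψ).resolve_right fun e => hH.z_notMem (e ▸ hmem)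

/-- The centraliser of a lift of a member is perfect. -/
theorem IsCompl.cent_perfect {e : C} (he : P.ψ e ∈ D) :
    ⁅Subgroup.centralizer ({e} : Set C), Subgroup.centralizer ({e} : Set C)⁆ =
      Subgroup.centralizer ({e} : Set C) := by
  classical
  have h := P.geo
  obtain ⟨a, ha, ⟨l₆, hl6, hl6n, -, hl6p⟩, hcomm, -⟩ :=
    M22Double.exists_data h.toSetup22 P.type22 P.center_hsub
  suffices key : ∀ e : C, P.ψ e = a → ⁅Subgroup.centralizer ({e} : Set C), Subgroup.centralizer ({e} : Set C)⁆ =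
      Subgroup.centralizer ({e} : Set C) by
    obtain ⟨g, hg⟩ := h.conjD a ha _ he (h.ne_one a ha) (h.ne_one _ he)
    obtain ⟨c, rfl⟩ := P.surj g
    have h1 : P.ψ (c⁻¹ * e * c) = a := by rw [map_mul, map_mul, map_inv, ← hg]; group
    have hmap : (Subgroup.centralizer ({c⁻¹ * e * c} : Set C)).map (MulAut.conj c).toMonoidHom =
        Subgroup.centralizer ({e} : Set C) := by
      ext x
      constructor
      · rintro ⟨y, hy, rfl⟩
        have hy' : y * (c⁻¹ * e * c) = c⁻¹ * e * c * y := Subgroup.mem_centralizer_singleton_iff.1 hy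
        refine Subgroup.mem_centralizer_singleton_iff.2 ?_
        show c * y * c⁻¹ * e = e * (c * y * c⁻¹)
        calc c * y * c⁻¹ * e = c * (y * (c⁻¹ * e * c)) * c⁻¹ := by group
          _ = c * (c⁻¹ * e * c * y) * c⁻¹ := by rw [hy']
          _ = e * (c * y * c⁻¹) := by group
      · intro hx
        have hx' : x * e = e * x := Subgroup.mem_centralizer_singleton_iff.1 hx
        refine ⟨c⁻¹ * x * c, Subgroup.mem_centralizer_singleton_iff.2 ?_, by
          show c * (c⁻¹ * x * c) * c⁻¹ = x; group⟩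
        calc c⁻¹ * x * c * (c⁻¹ * e * c) = c⁻¹ * (x * e) * c := by group
          _ = c⁻¹ * (e * x) * c := by rw [hx']
          _ = c⁻¹ * e * c * (c⁻¹ * x * c) := by group
    rw [← hmap, ← Subgroup.map_commutator, key _ h1]
  intro e hea
  have heD : P.ψ e ∈ D := by rw [hea]; exact ha
  set K := Subgroup.centralizer ({e} : Set C)
  set L := ⁅K, K⁆
  set Lq := L.map P.ψ
  have hcq := (centralizer_eq h ha).1
  have hK : ∀ {x : C}, x ∈ K ↔ P.ψ x ∈ hsub D a := fun {x} => by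
    rw [hcq, Subgroup.mem_centralizer_singleton_iff, Subgroup.mem_centralizer_singleton_iff]
    constructor
    · intro q; rw [← hea, ← map_mul, q, map_mul]
    · intro q; exact (P.cent_lift heD (by rw [hea]; exact q)).eq
  have hLK : L ≤ K := Subgroup.commutator_le.2 fun x hx y hy =>
    mul_mem (mul_mem (mul_mem hx hy) (inv_mem hx)) (inv_mem hy)
  have hnorm : ∀ c ∈ K, ∀ x ∈ L, c * x * c⁻¹ ∈ L := fun c hc x hx => by
    have hle : L.map (MulAut.conj c).toMonoidHom ≤ L := by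
      rw [Subgroup.map_commutator]
      refine Subgroup.commutator_mono ?_ ?_ <;> rintro _ ⟨y, hy, rfl⟩ <;>
        exact mul_mem (mul_mem hc hy) (inv_mem hc)
    exact hle ⟨x, hx, rfl⟩
  have hac : ∀ {x : Q}, x ∈ hsub D a → Commute a x := fun hx => (commute_hsub hx).symm
  have ha2 : a * a = 1 := h.tt.sq a ha
  have hLq : ∀ {x}, x ∈ Lq → x ∈ hsub D a := by
    rintro _ ⟨x, hx, rfl⟩; exact hK.1 (hLK hx)
  have hnb : ∀ b ∈ nb D a, b ∈ hsub D a := fun b hb => Subgroup.subset_closure hb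
  have hor : ∀ b ∈ nb D a, b ∈ Lq ∨ b * a ∈ Lq := fun b hb => by
    obtain ⟨u, hu, v, hv, e'⟩ := hcomm b hb
    have hm : u * v * u⁻¹ * v⁻¹ ∈ Lq := by
      obtain ⟨u', rfl⟩ := P.surj u
      obtain ⟨v', rfl⟩ := P.surj v
      exact ⟨⁅u', v'⁆, Subgroup.commutator_mem_commutator (hK.2 hu) (hK.2 hv), by
        rw [map_commutatorElement, commutatorElement_def]⟩
    rcases e' with rfl | rfl
    · exact Or.inl hm
    · exact Or.inr (by rwa [mul_assoc, ha2, mul_one])
  have hall : ∀ b ∈ nb D a, b ∈ Lq := by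
    intro b hb
    by_cases haL : a ∈ Lq
    · rcases hor b hb with q | q
      · exact q
      · simpa [mul_assoc, ha2] using mul_mem q haL
    exfalso
    by_cases hex : ∃ b₀ ∈ nb D a, b₀ ∈ Lq
    · obtain ⟨b₀, hb₀, y, hy, e'⟩ := hex
      refine haL (hl6p ▸ list_prod_mem fun b' hb' => ?_)
      obtain ⟨g, hg, eg⟩ := h.near a ha b₀ hb₀ b' (hl6n b' hb')
      obtain ⟨c, rfl⟩ := P.surj g
      exact ⟨c * y * c⁻¹, hnorm c (hK.2 hg) y hy, by rw [map_mul, map_mul, map_inv, e', eg]⟩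
    · push Not at hex
      have := prod_parity (S := Lq) (z := a) l₆ (fun s hs => hac (hLq hs))
        fun x hx => (hor x (hl6n x hx)).resolve_left (hex x (hl6n x hx))
      rw [hl6p, hl6, show (6 : ℕ) = 2 * 3 from rfl, pow_mul, pow_two, ha2, one_pow, mul_one] at this
      exact haL this
  have hfull : hsub D a ≤ Lq := (Subgroup.closure_le _).2 hall
  suffices hz : P.z ∈ L by
    refine le_antisymm hLK fun x hx => ?_
    obtain ⟨y, hy, e'⟩ := hfull (hK.1 hx)
    rcases P.same_image e' with rfl | rfl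
    exacts [hy, mul_mem hz hy]
  by_contra hz
  -- one lift of each neighbour
  obtain ⟨b₀, hb₀⟩ : (nb D a).Nonempty := Set.nonempty_of_ncard_ne_zero (by rw [(h.loc a ha).card_nb]; norm_num)
  obtain ⟨e₁, he₁, eb⟩ := hall b₀ hb₀
  have he₁D : P.ψ e₁ ∈ D := by rw [eb]; exact hb₀.1
  have hkb : P.kk e₁ b₀ = e₁ := eb ▸ P.kk_self he₁D
  have hχ : ∀ b ∈ nb D a, P.kk e₁ b ∈ L := fun b hb => by
    obtain ⟨g, hg, eg⟩ := h.near a ha b₀ hb₀ b hb
    obtain ⟨c, rfl⟩ := P.surj g
    rw [← eg, P.kk_conj he₁D hb₀.1, hkb]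
    exact hnorm c (hK.2 hg) _ he₁
  -- the point itself, through a block
  have hka : P.kk e₁ a ∈ L := by
    haveI : Fact (Nat.Prime 2) := ⟨Nat.prime_two⟩
    obtain ⟨T, hT⟩ := (isPGroup_of_sq (H := Subgroup.zpowers a) (fun x hx => by
      obtain ⟨k, rfl⟩ := Subgroup.mem_zpowers_iff.1 hx
      rw [← (Commute.refl a).mul_zpow, ha2, one_zpow])).exists_le_sylow
    have hCa := IsClique.of_sylow h T
    set Cla : Set Q := {x | x ∈ D ∧ x ∈ (T : Subgroup Q)}
    obtain ⟨Ha, hHa⟩ := hH.transfer hCl hCa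
    haveI := Fintype.ofFinite ↥Cla
    let a₀ : ↥Cla := ⟨a, ha, hT (Subgroup.mem_zpowers a)⟩
    have hS := sys22 hCa.comm h hCa.sub hCa.card
    obtain ⟨u, v, -, hu, hv, -, huv, -, -⟩ := Block22.three_mem (S := (Finset.univ : Finset ↥Cla).erase a₀)
      (by rw [Finset.card_erase_of_mem (Finset.mem_univ _), Finset.card_univ, hS.card]; norm_num)
    obtain ⟨B, hB, hBa, -, -⟩ := hS.ex (a := a₀) (b := u) (c := v) (Finset.ne_of_mem_erase hu).symm
      (Finset.ne_of_mem_erase hv).symm huv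
    set rest := (B.erase a₀).toList.map Subtype.val
    have hrest : ∀ x ∈ rest, x ∈ Cla ∧ x ≠ a := fun x hx => by
      obtain ⟨y, hy, rfl⟩ := List.mem_map.1 hx
      exact ⟨y.2, fun e' => Finset.ne_of_mem_erase (Finset.mem_toList.1 hy) (Subtype.ext e')⟩
    have hrel := hHa.relation hCa he₁D (l := a :: rest) (fun x hx => by
        rcases List.mem_cons.1 hx with rfl | hx
        exacts [a₀.2, (hrest x hx).1])
      (by rw [List.length_cons, List.length_map, Finset.length_toList, Finset.card_erase_of_mem hBa, hB.1]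
          decide)
      (by
        have e' := hB.2
        rw [← Finset.insert_erase hBa, Finset.insert_eq, cprod_union hCa.comm
          (Finset.disjoint_singleton_left.2 (Finset.notMem_erase _ _)), cprod_toList hCa.comm (B.erase a₀)] at e'
        rw [show cprod hCa.comm {a₀} = a by simp [cprod, a₀]] at e'
        rw [List.prod_cons]
        exact e')
    rw [List.map_cons, List.prod_cons] at hrel
    rw [mul_eq_one_iff_eq_inv.1 hrel]
    refine inv_mem (list_prod_mem fun x hx => ?_)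
    obtain ⟨y, hy, rfl⟩ := List.mem_map.1 hx
    exact hχ y ⟨(hrest y hy).1.1, (hrest y hy).2, hCa.comm a a₀.2 y (hrest y hy).1⟩
  -- the common neighbours
  set U : Set Q := {y | y ∈ D ∧ Commute a y ∧ Commute b₀ y}
  set Λ := Subgroup.closure (P.kk e₁ '' U) with hΛ
  have hΛL : Λ ≤ L := (Subgroup.closure_le _).2 (by
    rintro _ ⟨y, ⟨hy, hay, -⟩, rfl⟩
    by_cases hya : y = a
    · rw [hya]; exact hka
    · exact hχ y ⟨hy, hya, hay⟩)
  set ka := P.kk e₁ a
  have hka' : P.ψ ka = a := (P.kk_spec he₁D ha).1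
  set K₂ := Subgroup.centralizer ({ka * e₁} : Set C)
  have hab : a ≠ b₀ := hb₀.2.1.symm
  have huniq : ∀ g : Q, g * (a * b₀) * g⁻¹ = a * b₀ →
      (g * a * g⁻¹ = a ∧ g * b₀ * g⁻¹ = b₀) ∨ (g * a * g⁻¹ = b₀ ∧ g * b₀ * g⁻¹ = a) := by
    intro g hg
    have hu := uniq_two h.tt h.twinFree h.ne_one (l := [g * a * g⁻¹, g * b₀ * g⁻¹]) (l' := [a, b₀])
      ⟨by simpa using hab, rfl, by simpa using ⟨h.tt.conj g a ha, h.tt.conj g b₀ hb₀.1⟩, by
        simpa [commute_conj_iff] using ⟨hb₀.2.2, hb₀.2.2.symm⟩⟩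
      ⟨by simpa using hab, rfl, by simpa using ⟨ha, hb₀.1⟩, by simpa using ⟨hb₀.2.2, hb₀.2.2.symm⟩⟩
      (by simpa [mul_assoc] using hg)
    have h1 := (hu (g * a * g⁻¹)).1 (by simp)
    have h2 := (hu (g * b₀ * g⁻¹)).1 (by simp)
    simp only [List.mem_cons, List.not_mem_nil, or_false] at h1 h2
    have hne : g * a * g⁻¹ ≠ g * b₀ * g⁻¹ := fun q => hab (mul_left_cancel (mul_right_cancel q))
    rcases h1 with h1 | h1 <;> rcases h2 with h2 | h2
    exacts [absurd (h1.trans h2.symm) hne, Or.inl ⟨h1, h2⟩, Or.inr ⟨h1, h2⟩, absurd (h1.trans h2.symm) hne]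
  have hK₂ : K₂ = (Subgroup.centralizer ({a * b₀} : Set Q)).comap P.ψ := by
    ext x
    rw [Subgroup.mem_comap, Subgroup.mem_centralizer_singleton_iff, Subgroup.mem_centralizer_singleton_iff]
    constructor
    · intro q
      have := congrArg P.ψ q
      rwa [map_mul, map_mul, map_mul, map_mul, hka', eb] at this
    · intro q
      refine mul_inv_eq_iff_eq_mul.1 ?_
      have h1 := P.kk_conj he₁D ha x
      have h2 := P.kk_conj he₁D hb₀.1 x
      rw [show x * (ka * e₁) * x⁻¹ = x * ka * x⁻¹ * (x * e₁ * x⁻¹) by group, ← h1,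
        show x * e₁ * x⁻¹ = x * P.kk e₁ b₀ * x⁻¹ by rw [hkb], ← h2]
      rcases huniq (P.ψ x) (mul_inv_eq_iff_eq_mul.2 q) with ⟨q1, q2⟩ | ⟨q1, q2⟩
      · rw [q1, q2, hkb]
      · rw [q1, q2, hkb]
        exact (P.lift_comm_and_sq.1 (by rw [hka']; exact ha) he₁D (by rw [hka', eb]; exact hb₀.2.2)).eq.symm
  have hindex : ¬ 2 ∣ K₂.index := by
    rw [hK₂, Subgroup.index_comap_of_surjective _ P.surj]
    have ho := (order22 h P.prim P.type22).1
    have h1 := card_cent_pair h ha hb₀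
    rw [ho a ha] at h1
    have h2 := Subgroup.card_eq_card_quotient_mul_card_subgroup (hsub D a)
    rw [(centralizer_eq h ha).2, ncard_D h ha, ho a ha,
      ← Subgroup.card_mul_index (Subgroup.centralizer ({a * b₀} : Set Q))] at h2
    rw [show Nat.card ↥(Subgroup.centralizer ({a * b₀} : Set Q)) = 53084160 by omega] at h2
    omega
  have hΛn : ∀ x ∈ K₂, ∀ y ∈ Λ, x * y * x⁻¹ ∈ Λ := fun x hx y hy => by
    have hle : Λ.map (MulAut.conj x).toMonoidHom ≤ Λ := by
      rw [hΛ, MonoidHom.map_closure, Subgroup.closure_le]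
      rintro _ ⟨_, ⟨w, ⟨hw, haw, hbw⟩, rfl⟩, rfl⟩
      refine Subgroup.subset_closure ⟨P.ψ x * w * (P.ψ x)⁻¹, ⟨h.tt.conj _ w hw, ?_⟩, P.kk_conj he₁D hw x⟩
      rw [hK₂, Subgroup.mem_comap, Subgroup.mem_centralizer_singleton_iff] at hx
      have ca := (commute_conj_iff (P.ψ x) a w).2 haw
      have cb := (commute_conj_iff (P.ψ x) b₀ w).2 hbw
      rcases huniq (P.ψ x) (mul_inv_eq_iff_eq_mul.2 hx) with ⟨q1, q2⟩ | ⟨q1, q2⟩ <;> rw [q1] at ca <;>
        rw [q2] at cb
      exacts [⟨ca, cb⟩, ⟨cb, ca⟩]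
    exact hle ⟨y, hy, rfl⟩
  have hΛ₂ : ∀ y ∈ Λ, y ∈ K₂ := by
    intro y hy
    refine (Subgroup.closure_le K₂).2 ?_ hy
    rintro _ ⟨w, ⟨hw, haw, hbw⟩, rfl⟩
    rw [SetLike.mem_coe, hK₂, Subgroup.mem_comap, (P.kk_spec he₁D hw).1, Subgroup.mem_centralizer_singleton_iff]
    exact (haw.symm.mul_right hbw.symm).eq
  haveI hN : (Λ.subgroupOf K₂).Normal := ⟨fun y hy x => hΛn x x.2 y hy⟩
  set q := QuotientGroup.mk' (Λ.subgroupOf K₂)
  have hz₂ : P.z ∈ K₂ := Subgroup.mem_centralizer_singleton_iff.2 (P.central _)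
  set z' : ↥K₂ := ⟨P.z, hz₂⟩
  have hmemK : ∀ x ∈ K₂, P.ψ x * (a * b₀) = a * b₀ * P.ψ x := fun x hx => by
    rw [hK₂] at hx
    exact Subgroup.mem_centralizer_singleton_iff.1 hx
  have hfixed : ∀ x : ↥K₂, P.ψ (x : C) * a * (P.ψ (x : C))⁻¹ = a → q x = 1 ∨ q x = q z' := by
    intro x hxa
    have hx := hmemK x.1 x.2
    have hxb : P.ψ (x : C) * b₀ * (P.ψ (x : C))⁻¹ = b₀ := by
      rcases huniq (P.ψ (x : C)) (mul_inv_eq_iff_eq_mul.2 hx) with ⟨-, q2⟩ | ⟨q1, -⟩
      exacts [q2, absurd (hxa.symm.trans q1) hab]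
    have hmem := cent_in_hsub h ha hb₀ (g := P.ψ (x : C))
      (by rw [hcq, Subgroup.mem_centralizer_singleton_iff]; exact mul_inv_eq_iff_eq_mul.1 hxa)
      (mul_inv_eq_iff_eq_mul.1 hxb)
    have hle : Subgroup.closure U ≤ Λ.map P.ψ := (Subgroup.closure_le _).2 fun w hw =>
      ⟨P.kk e₁ w, Subgroup.subset_closure ⟨w, hw, rfl⟩, (P.kk_spec he₁D hw.1).1⟩
    obtain ⟨y, hy, e'⟩ := hle hmem
    rcases P.same_image e' with e'' | e''
    · left
      refine (QuotientGroup.eq_one_iff x).2 ?_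
      rw [Subgroup.mem_subgroupOf, e'']; exact hy
    · right
      refine (QuotientGroup.eq.2 ?_).symm
      rw [Subgroup.mem_subgroupOf, Subgroup.coe_mul, Subgroup.coe_inv, e'']
      show P.z⁻¹ * (P.z * y) ∈ Λ
      rwa [inv_mul_cancel_left]
  obtain ⟨t, ht⟩ : ∃ t : ↥K₂, ∀ x : ↥K₂, q x ∈ Subgroup.closure ({q z', q t} : Set (↥K₂ ⧸ Λ.subgroupOf K₂)) := by
    have hbase : ∀ t x : ↥K₂, P.ψ (x : C) * a * (P.ψ (x : C))⁻¹ = a →
        q x ∈ Subgroup.closure ({q z', q t} : Set (↥K₂ ⧸ Λ.subgroupOf K₂)) := fun t x hx => by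
      rcases hfixed x hx with e' | e' <;> rw [e']
      exacts [one_mem _, Subgroup.subset_closure (Or.inl rfl)]
    by_cases hsw : ∃ t : ↥K₂, P.ψ (t : C) * a * (P.ψ (t : C))⁻¹ ≠ a
    · obtain ⟨t, ht⟩ := hsw
      refine ⟨t, fun x => ?_⟩
      by_cases hx : P.ψ (x : C) * a * (P.ψ (x : C))⁻¹ = a
      · exact hbase t x hx
      have hb : ∀ y : ↥K₂, P.ψ (y : C) * a * (P.ψ (y : C))⁻¹ ≠ a →
          P.ψ (y : C) * a * (P.ψ (y : C))⁻¹ = b₀ := fun y hy => by
        have hy' := hmemK y.1 y.2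
        rcases huniq (P.ψ (y : C)) (mul_inv_eq_iff_eq_mul.2 hy') with ⟨q1, -⟩ | ⟨q1, -⟩
        exacts [absurd q1 hy, q1]
      have := hbase t (t⁻¹ * x) (by
        rw [Subgroup.coe_mul, Subgroup.coe_inv, map_mul, map_inv]
        calc (P.ψ (t : C))⁻¹ * P.ψ (x : C) * a * ((P.ψ (t : C))⁻¹ * P.ψ (x : C))⁻¹
            = (P.ψ (t : C))⁻¹ * (P.ψ (x : C) * a * (P.ψ (x : C))⁻¹) * P.ψ (t : C) := by group
          _ = (P.ψ (t : C))⁻¹ * (P.ψ (t : C) * a * (P.ψ (t : C))⁻¹) * P.ψ (t : C) := by rw [hb x hx, hb t ht]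
          _ = a := by group)
      have hmt : q t ∈ ({q z', q t} : Set (↥K₂ ⧸ Λ.subgroupOf K₂)) := Or.inr rfl
      have h' := mul_mem (Subgroup.subset_closure hmt) this
      rwa [← map_mul, mul_inv_cancel_left] at h'
    · push Not at hsw
      exact ⟨1, fun x => hbase 1 x (hsw x)⟩
  have habel : ∀ x y : ↥K₂, (⁅x, y⁆ : ↥K₂) ∈ Λ.subgroupOf K₂ := by
    have hzt : Commute (q z') (q t) := (show Commute z' t from Subtype.ext (P.central _)).map q
    have hc : ∀ u ∈ ({q z', q t} : Set (↥K₂ ⧸ Λ.subgroupOf K₂)), ∀ v ∈ ({q z', q t} : Set (↥K₂ ⧸ Λ.subgroupOf K₂)),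
        Commute u v := by
      rintro u (rfl | rfl) v (rfl | rfl)
      exacts [Commute.refl _, hzt, hzt.symm, Commute.refl _]
    intro x y
    have hxy : Commute (q x) (q y) := (commute_of_closure (fun b hb =>
      (commute_of_closure (fun w hw => hc w hw b hb) _ (ht x)).symm) _ (ht y)).symm
    rw [← QuotientGroup.eq_one_iff]
    show q ⁅x, y⁆ = 1
    rw [map_commutatorElement, commutatorElement_eq_one_iff_mul_comm]
    exact hxy.eq
  haveI : Fact (Nat.Prime 2) := ⟨Nat.prime_two⟩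
  obtain ⟨S, hS⟩ := (isPGroup_of_sq (H := Subgroup.zpowers z') (fun x hx => by
    obtain ⟨k, rfl⟩ := Subgroup.mem_zpowers_iff.1 hx
    rw [← (Commute.refl z').mul_zpow, show z' * z' = 1 from Subtype.ext P.z_sq, one_zpow])).exists_le_sylow
  let S' : Sylow 2 C := (S.isPGroup'.map K₂.subtype).toSylow (by
    rw [Subgroup.index_map_subtype]
    intro hd
    rcases (Nat.prime_two.dvd_mul).1 hd with q1 | q1
    exacts [S.not_dvd_index q1, hindex q1])
  have hzS : P.z ∈ (S' : Subgroup C) := ⟨z', hS (Subgroup.mem_zpowers z'), rfl⟩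
  have hder := SixPlane.central_mem_derived P.perfect S' hzS
    (Subgroup.mem_center_iff.2 fun g => (P.central g).symm)
  have hle : commutator ↥(S' : Subgroup C) ≤ Λ.subgroupOf (S' : Subgroup C) := by
    rw [commutator_def, Subgroup.commutator_le]
    rintro ⟨_, x, hx, rfl⟩ - ⟨_, y, hy, rfl⟩ -
    rw [Subgroup.mem_subgroupOf]
    exact habel x y
  exact hz (hΛL (hle hder))

end Cover

theorem card_comap_two {G G' : Type*} [Group G] [Group G'] [Finite G] (f : G →* G') (hf : Function.Surjective f)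
    (hk : Nat.card ↥f.ker = 2) (H : Subgroup G') : Nat.card ↥(H.comap f) = 2 * Nat.card ↥H := by
  haveI : Finite G' := Finite.of_surjective f hf
  have h1 := Subgroup.card_mul_index (H.comap f)
  rw [Subgroup.index_comap_of_surjective H hf, Subgroup.card_eq_card_quotient_mul_card_subgroup f.ker,
    Nat.card_congr (QuotientGroup.quotientKerEquivOfSurjective f hf).toEquiv, hk, ← Subgroup.card_mul_index H] at h1
  have hpos : 0 < H.index := Nat.pos_of_ne_zero Subgroup.index_ne_zero_of_finite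
  exact Nat.eq_of_mul_eq_mul_right hpos (by rw [h1]; ring)

/-- No invariant complement exists. -/
theorem Cover.no_complement {P : Cover D C} {Cl : Set Q} (hCl : IsClique D Cl) {H : Subgroup C}
    (hH : P.IsCompl Cl H) : False := by
  classical
  haveI : Fact (Nat.Prime 2) := ⟨Nat.prime_two⟩
  have h := P.geo
  obtain ⟨-, d, hd, -, -, -, ⟨F, _, _, hF4, ⟨eQ⟩⟩, -⟩ := id P.type22
  have hF : Nat.card F = 2 ^ 2 := by rw [Nat.card_eq_fintype_card, hF4]; rfl
  haveI : CharP F 2 := charP_of_card_eq_prime_pow (f := 2) (by rw [hF4]; rfl)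
  obtain ⟨ω, -, -, hω⟩ := SixTwo.exists_omega hF
  have hd2 : d * d = 1 := h.tt.sq d hd
  obtain ⟨T, hT⟩ := (isPGroup_of_sq (H := Subgroup.zpowers d) (fun x hx => by
    obtain ⟨k, rfl⟩ := Subgroup.mem_zpowers_iff.1 hx
    rw [← (Commute.refl d).mul_zpow, hd2, one_zpow])).exists_le_sylow
  have hC1 := IsClique.of_sylow h T
  set Cl₁ : Set Q := {x | x ∈ D ∧ x ∈ (T : Subgroup Q)}
  obtain ⟨H₁, hH₁⟩ := hH.transfer hCl hC1
  obtain ⟨e, he, heH⟩ : ∃ e : C, P.ψ e = d ∧ e ∈ H₁ := by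
    obtain ⟨y, hy⟩ := P.surj d
    have hyd : P.ψ y ∈ Cl₁ := by rw [hy]; exact ⟨hd, hT (Subgroup.mem_zpowers d)⟩
    rcases hH₁.mem_or hC1 (P.lift_mem_pre hyd) with q | q
    exacts [⟨y, hy, q⟩, ⟨P.z * y, by rw [P.psi_zmul, hy], q⟩]
  have heD : P.ψ e ∈ D := by rw [he]; exact hd
  set K := Subgroup.centralizer ({e} : Set C) with hKdef
  have hcq := (centralizer_eq h hd).1
  have hK : ∀ {x : C}, x ∈ K ↔ P.ψ x ∈ hsub D d := fun {x} => by
    rw [hcq, Subgroup.mem_centralizer_singleton_iff, Subgroup.mem_centralizer_singleton_iff]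
    constructor
    · intro q; rw [← he, ← map_mul, q, map_mul]
    · intro q; exact (P.cent_lift heD (by rw [he]; exact q)).eq
  -- the cover of the model
  let φ₁ : ↥K →* Cfsg.PSU 6 F 2 := eQ.toMonoidHom.comp ((QuotientGroup.mk' (Subgroup.center ↥(hsub D d))).comp
    ((P.ψ.comp K.subtype).codRestrict (hsub D d) fun x => hK.1 x.2))
  have hφ₁ : Function.Surjective φ₁ := by
    intro y
    obtain ⟨u, hu⟩ := QuotientGroup.mk'_surjective (Subgroup.center ↥(hsub D d)) (eQ.symm y)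
    obtain ⟨x, hx⟩ := P.surj (u : Q)
    refine ⟨⟨x, hK.2 (hx ▸ u.2)⟩, ?_⟩
    show eQ (QuotientGroup.mk' _ ⟨P.ψ x, _⟩) = y
    rw [show (⟨P.ψ x, hx ▸ u.2⟩ : ↥(hsub D d)) = u from Subtype.ext hx, hu, eQ.apply_symm_apply]
  have hker₁ : ∀ x : ↥K, φ₁ x = 1 ↔ P.ψ (x : C) = 1 ∨ P.ψ (x : C) = d := by
    intro x
    refine eQ.map_eq_one_iff.trans ((QuotientGroup.eq_one_iff _).trans ?_)
    constructor
    · exact P.center_hsub d hd _
    · intro hx
      rcases hx with q | q
      · exact Subgroup.mem_center_iff.2 fun g => Subtype.ext (by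
          show (g : Q) * P.ψ (x : C) = P.ψ (x : C) * g
          rw [q, mul_one, one_mul])
      · exact Subgroup.mem_center_iff.2 fun g => Subtype.ext (by
          show (g : Q) * P.ψ (x : C) = P.ψ (x : C) * g
          rw [q]; exact (commute_hsub g.2).eq)
  have hee : e ∈ K := Subgroup.mem_centralizer_singleton_iff.2 rfl
  have he2 : e * e = 1 := P.lift_comm_and_sq.2 heD
  have he1 : e ≠ 1 := fun q => h.ne_one d hd (by rw [← he, q, map_one])
  set N := Subgroup.zpowers (⟨e, hee⟩ : ↥K)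
  have hNc : ∀ n ∈ N, ∀ g : ↥K, Commute g n := fun n hn g => by
    obtain ⟨k, rfl⟩ := Subgroup.mem_zpowers_iff.1 hn
    exact (show Commute g ⟨e, hee⟩ from Subtype.ext (Subgroup.mem_centralizer_singleton_iff.1 g.2)).zpow_right k
  haveI : N.Normal := ⟨fun n hn g => by rw [(hNc n hn g).eq, mul_inv_cancel_right]; exact hn⟩
  have hNker : N ≤ φ₁.ker := Subgroup.zpowers_le.2 ((hker₁ _).2 (Or.inr he))
  have hmemN : ∀ x : ↥K, x ∈ N ↔ (x : C) = 1 ∨ (x : C) = e := by
    intro x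
    constructor
    · intro hx
      obtain ⟨k, rfl⟩ := Subgroup.mem_zpowers_iff.1 hx
      rw [Subgroup.coe_zpow]
      rcases Int.even_or_odd' k with ⟨j, rfl | rfl⟩
      · left; rw [zpow_mul, zpow_two, he2, one_zpow]
      · right; rw [zpow_add, zpow_mul, zpow_two, he2, one_zpow, one_mul, zpow_one]
    · rintro (q | q)
      · rw [show x = 1 from Subtype.ext q]; exact one_mem _
      · rw [show x = ⟨e, hee⟩ from Subtype.ext q]; exact Subgroup.mem_zpowers _
  have hzK : P.z ∈ K := Subgroup.mem_centralizer_singleton_iff.2 (P.central e)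
  have hzN : (⟨P.z, hzK⟩ : ↥K) ∉ N := fun hm => by
    rcases (hmemN _).1 hm with q | q
    · exact P.z_ne q
    · exact hH₁.z_notMem (show P.z ∈ H₁ from (show P.z = e from q) ▸ heH)
  let Kv : SixPlane.Cov F (↥K ⧸ N) :=
    { φ := QuotientGroup.lift N φ₁ hNker
      surj := QuotientGroup.lift_surjective_of_surjective N φ₁ hφ₁ hNker
      z := QuotientGroup.mk (⟨P.z, hzK⟩ : ↥K)
      z_ne := fun q => hzN ((QuotientGroup.eq_one_iff _).1 q)
      ker_iff := fun y => by
        obtain ⟨x, rfl⟩ := QuotientGroup.mk_surjective y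
        rw [QuotientGroup.lift_mk, hker₁]
        constructor
        · intro hx
          have : (x : C) = 1 ∨ (x : C) = P.z ∨ (x : C) = e ∨ (x : C) = P.z * e := by
            rcases hx with q | q
            · exact ((P.ker_iff _).1 q).imp id Or.inl
            · rcases P.same_image (he.trans q.symm) with q' | q'
              exacts [Or.inr (Or.inr (Or.inl q')), Or.inr (Or.inr (Or.inr q'))]
          rcases this with q | q | q | q
          · exact Or.inl ((QuotientGroup.eq_one_iff x).2 ((hmemN x).2 (Or.inl q)))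
          · exact Or.inr (congrArg QuotientGroup.mk (Subtype.ext q))
          · exact Or.inl ((QuotientGroup.eq_one_iff x).2 ((hmemN x).2 (Or.inr q)))
          · right
            refine (QuotientGroup.eq.2 ((hmemN _).2 (Or.inr ?_))).symm
            rw [Subgroup.coe_mul, Subgroup.coe_inv, q]
            exact inv_mul_cancel_left _ _
        · rintro (q | q)
          · rcases (hmemN x).1 ((QuotientGroup.eq_one_iff x).1 q) with q' | q'
            · exact Or.inl (by rw [q', map_one])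
            · exact Or.inr (by rw [q', he])
          · have hm := (hmemN _).1 (QuotientGroup.eq.1 q.symm)
            rw [Subgroup.coe_mul, Subgroup.coe_inv, inv_mul_eq_iff_eq_mul, inv_mul_eq_iff_eq_mul, mul_one] at hm
            rcases hm with q' | q'
            · exact Or.inl (by rw [q', P.phi_z])
            · exact Or.inr (by rw [q', P.psi_zmul, he])
      central := fun y => by
        obtain ⟨x, rfl⟩ := QuotientGroup.mk_surjective y
        rw [← QuotientGroup.mk_mul, ← QuotientGroup.mk_mul]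
        exact congrArg QuotientGroup.mk (Subtype.ext (P.central x))
      perfect := M22Double.perfect_of_surjective (QuotientGroup.mk' N) (QuotientGroup.mk'_surjective N) (by
        apply Subgroup.map_injective K.subtype_injective
        rw [commutator_def, Subgroup.map_commutator, ← MonoidHom.range_eq_map, Subgroup.range_subtype]
        exact hH.cent_perfect hCl heD) }
  set q := QuotientGroup.mk' N
  have hqs : Function.Surjective q := QuotientGroup.mk'_surjective N
  have hqk : Nat.card ↥q.ker = 2 := by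
    rw [QuotientGroup.ker_mk', Nat.card_zpowers]
    refine orderOf_eq_prime (by rw [pow_two]; exact Subtype.ext he2) fun q' => he1 (congrArg Subtype.val q')
  -- the images
  obtain ⟨hAc, hA2⟩ := P.pre_elementary hC1
  have heA : e ∈ P.pre Cl₁ := hH₁.le heH
  have hAK : P.pre Cl₁ ≤ K := fun x hx => Subgroup.mem_centralizer_singleton_iff.2 (hAc x hx e heA)
  have himg : ∀ X : Subgroup C, e ∈ X → X ≤ K →
      (∀ x : ↥K, q x ∈ (X.subgroupOf K).map q ↔ (x : C) ∈ X) ∧
        2 * Nat.card ↥((X.subgroupOf K).map q) = Nat.card ↥X := by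
    intro X heX hXK
    have hN : q.ker ≤ X.subgroupOf K := by
      rw [QuotientGroup.ker_mk']
      intro x hx
      rw [Subgroup.mem_subgroupOf]
      rcases (hmemN x).1 hx with q' | q' <;> rw [q']
      exacts [one_mem _, heX]
    have hcm := Subgroup.comap_map_eq_self hN
    refine ⟨fun x => ?_, ?_⟩
    · rw [← Subgroup.mem_comap, hcm, Subgroup.mem_subgroupOf]
    · rw [← card_comap_two q hqs hqk, hcm, Nat.card_congr (Subgroup.subgroupOfEquivOfLe hXK).toEquiv]
  obtain ⟨hAm, hAcard⟩ := himg _ heA hAK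
  obtain ⟨hHm, hHcard⟩ := himg _ heH (hH₁.le.trans hAK)
  set B := ((P.pre Cl₁).subgroupOf K).map q
  set B' := (H₁.subgroupOf K).map q
  rw [P.card_pre hC1] at hAcard
  rw [hH₁.card] at hHcard
  obtain ⟨c, hc⟩ := (Kv.elementary_conj hF hω (B := B)
    (by
      rintro _ ⟨x, hx, rfl⟩ _ ⟨y, hy, rfl⟩
      rw [← map_mul, ← map_mul, show x * y = y * x from Subtype.ext (hAc _ hx _ hy)])
    (by
      rintro _ ⟨x, hx, rfl⟩
      rw [← map_mul, show x * x = 1 from Subtype.ext (hA2 _ hx), map_one])).2 (by omega)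
  refine Kv.no_split hF hω (H := B'.map (MulAut.conj c).toMonoidHom) ?_ ?_ ?_ ?_
  · rw [← hc]
    exact Subgroup.map_mono (Subgroup.map_mono fun x hx => hH₁.le hx)
  · rintro ⟨y, hy, e'⟩
    change c * y * c⁻¹ = Kv.z at e'
    have hyz : y = Kv.z := by rw [← Kv.conj_z c⁻¹, inv_inv, ← e']; group
    exact hH₁.z_notMem ((hHm ⟨P.z, hzK⟩).1 (show Kv.z ∈ B' from hyz ▸ hy))
  · rw [Subgroup.card_map_of_injective (MulAut.conj c).injective]; omega
  · rintro m hm _ ⟨y, hy, rfl⟩
    obtain ⟨w, rfl⟩ := hqs y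
    obtain ⟨n, hn⟩ := hqs (c⁻¹ * m * c)
    have hnA : ∀ x ∈ P.pre Cl₁, (n : C) * x * (n : C)⁻¹ ∈ P.pre Cl₁ := fun x hx => by
      refine (hAm (n * ⟨x, hAK hx⟩ * n⁻¹)).1 ?_
      have h1 : c * q ⟨x, hAK hx⟩ * c⁻¹ ∈ Kv.base := hc ▸ ⟨_, (hAm _).2 hx, rfl⟩
      have h2 := Kv.base_conj hF h1 hm
      rw [← hc] at h2
      obtain ⟨y', hy', e'⟩ := h2
      change c * y' * c⁻¹ = m * (c * q ⟨x, hAK hx⟩ * c⁻¹) * m⁻¹ at e'
      rw [map_mul, map_mul, map_inv, hn]
      rw [show c⁻¹ * m * c * q ⟨x, hAK hx⟩ * (c⁻¹ * m * c)⁻¹ =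
          c⁻¹ * (m * (c * q ⟨x, hAK hx⟩ * c⁻¹) * m⁻¹) * c by group, ← e',
        show c⁻¹ * (c * y' * c⁻¹) * c = y' by group]
      exact hy'
    refine ⟨q (n * w * n⁻¹), (hHm _).2 (hH₁.inv n hnA _ ((hHm w).1 hy)), ?_⟩
    show c * q (n * w * n⁻¹) * c⁻¹ = m * (c * q w * c⁻¹) * m⁻¹
    rw [map_mul, map_mul, map_inv, hn]
    group

end CfsgLib.DoubleM22
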