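import Cfsg.Agent.DoubleM22.Config
import Cfsg.Agent.DoubleM22.Split

/-!
The conjugates of the central involution in the preimage are 23 in number and are permuted transitively.
-/

set_option autoImplicit false
set_option linter.unusedSectionVars false
set_option linter.style.haveILetI false

namespace CfsgLib.DoubleM22

open CfsgLib.ThreeT CfsgLib.ThreeT.Prod

namespace Cover

variable {G : Type*} [Group G] [Finite G] {d : G} {Q : Type*} [Group Q] [Finite Q] {D : Set Q}
  (P : Cover D ↥(Subgroup.centralizer ({d} : Set G)))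

/-- The preimage inside the whole group. -/
def preG (Cl : Set Q) : Subgroup G := (P.pre Cl).map (Subgroup.centralizer ({d} : Set G)).subtype

theorem mem_preG {Cl : Set Q} {x : G} : x ∈ P.preG Cl ↔ ∃ y ∈ P.pre Cl, (y : G) = x := Iff.rfl

variable (hz : (P.z : G) = d) {Cl : Set Q} (hCl : IsClique D Cl)

include hz hCl

theorem card_preG : Nat.card ↥(P.preG Cl) = 2 ^ 11 := by
  rw [preG, Subgroup.card_map_of_injective Subtype.val_injective, P.card_pre hCl]; rfl

/-- The normaliser is transitive on the conjugates of `d`. -/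
theorem transitive {x : G} (hx : x ∈ P.preG Cl) (hc : IsConj d x) :
    ∃ n ∈ Subgroup.normalizer (P.preG Cl : Set G), n * d * n⁻¹ = x := by
  obtain ⟨g, hg⟩ := isConj_iff.1 hc
  obtain ⟨hcomm, hsq⟩ := P.pre_elementary hCl
  set B' : Subgroup G := (P.preG Cl).map (MulAut.conj g⁻¹).toMonoidHom with hB'
  have hle : B' ≤ Subgroup.centralizer ({d} : Set G) := by
    rintro _ ⟨a, ⟨a', ha', rfl⟩, rfl⟩
    obtain ⟨x', hx', rfl⟩ := hx
    refine Subgroup.mem_centralizer_singleton_iff.2 ?_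
    show g⁻¹ * (a' : G) * g⁻¹⁻¹ * d = d * (g⁻¹ * (a' : G) * g⁻¹⁻¹)
    have e : d = g⁻¹ * (x' : G) * g := by
      rw [show ((Subgroup.centralizer ({d} : Set G)).subtype x') = (x' : G) from rfl] at hg
      rw [← hg]; group
    have e' : (a' : G) * x' = x' * a' := congrArg Subtype.val (hcomm a' ha' x' hx')
    generalize (a' : G) = p at e' ⊢
    rw [e, inv_inv, show g⁻¹ * p * g * (g⁻¹ * x' * g) = g⁻¹ * (p * x') * g by group, e']
    group
  set B := B'.subgroupOf (Subgroup.centralizer ({d} : Set G))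
  have hcB : ∀ a ∈ B, ∀ b ∈ B, a * b = b * a := by
    rintro a ⟨_, ⟨a', ha', rfl⟩, ea⟩ b ⟨_, ⟨b', hb', rfl⟩, eb⟩
    refine Subtype.ext ?_
    change (MulAut.conj g⁻¹) (a' : G) = (a : G) at ea
    change (MulAut.conj g⁻¹) (b' : G) = (b : G) at eb
    show (a : G) * b = b * a
    rw [← ea, ← eb, ← map_mul, ← map_mul, show (a' : G) * b' = b' * a' from
      congrArg Subtype.val (hcomm a' ha' b' hb')]
  have h2B : ∀ a ∈ B, a * a = 1 := by
    rintro a ⟨_, ⟨a', ha', rfl⟩, ea⟩
    refine Subtype.ext ?_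
    change (MulAut.conj g⁻¹) (a' : G) = (a : G) at ea
    show (a : G) * a = 1
    rw [← ea, ← map_mul, show (a' : G) * a' = 1 from congrArg Subtype.val (hsq a' ha'), map_one]
  have hcard : Nat.card ↥B = 2048 := by
    rw [Nat.card_congr (Subgroup.subgroupOfEquivOfLe hle).toEquiv, hB',
      Subgroup.card_map_of_injective (MulAut.conj g⁻¹).injective, P.card_preG hz hCl]
    rfl
  obtain ⟨c, hc'⟩ := P.elementary_conj hCl hcB h2B hcard.ge
  refine ⟨g * (c : G)⁻¹, ?_, ?_⟩
  · have key : ∀ a : G, a ∈ P.preG Cl → (c : G) * (g⁻¹ * a * g) * (c : G)⁻¹ ∈ P.preG Cl := fun a ha => by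
      have hb : g⁻¹ * a * g ∈ B' := ⟨a, ha, by simp [MulAut.conj_apply]⟩
      have hm : c * ⟨_, hle hb⟩ * c⁻¹ ∈ P.pre Cl := by
        rw [← hc']
        exact ⟨⟨_, hle hb⟩, Subgroup.mem_subgroupOf.2 hb, rfl⟩
      exact ⟨_, hm, rfl⟩
    rw [← inv_inv (g * (c : G)⁻¹)]
    refine inv_mem ?_
    have hfin : ∀ a, a ∈ P.preG Cl → (g * (c : G)⁻¹)⁻¹ * a * (g * (c : G)⁻¹)⁻¹⁻¹ ∈ P.preG Cl := fun a ha => by
      rw [show (g * (c : G)⁻¹)⁻¹ * a * (g * (c : G)⁻¹)⁻¹⁻¹ = (c : G) * (g⁻¹ * a * g) * (c : G)⁻¹ by group]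
      exact key a ha
    exact Subgroup.mem_normalizer_fintype hfin
  · have := Subgroup.mem_centralizer_singleton_iff.1 (inv_mem c.2)
    rw [show g * (c : G)⁻¹ * d * (g * (c : G)⁻¹)⁻¹ = g * ((c : G)⁻¹ * d * c) * g⁻¹ by group]
    rw [this, show d * (c : G)⁻¹ * c = d by group, hg]

/-- Exactly 23 conjugates. -/
theorem ncard_conj (hnwc : ∃ g : G, g * d * g⁻¹ ∈ Subgroup.centralizer ({d} : Set G) ∧ g * d * g⁻¹ ≠ d) :
    {x : G | x ∈ P.preG Cl ∧ IsConj d x}.ncard = 23 := by
  classical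
  haveI := Fintype.ofFinite ↥Cl
  have h := P.geo
  obtain ⟨hcomm, hsq⟩ := P.pre_elementary hCl
  obtain ⟨p₀, hp₀⟩ : Cl.Nonempty := Set.nonempty_of_ncard_ne_zero (by rw [hCl.card]; norm_num)
  obtain ⟨e₀, he₀⟩ := P.surj p₀
  have he : P.ψ e₀ ∈ D := by rw [he₀]; exact hCl.sub hp₀
  letI : CommGroup ↥(P.pre Cl) :=
    { (inferInstance : Group ↥(P.pre Cl)) with
      mul_comm := fun a b => Subtype.ext (hcomm a a.2 b b.2) }
  letI : CommGroup ↥(Subgroup.closure Cl) :=
    { (inferInstance : Group ↥(Subgroup.closure Cl)) with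
      mul_comm := fun a b => Subtype.ext ((hCl.elementary h).1 a a.2 b b.2) }
  let ψV : ↥(P.pre Cl) →* ↥(Subgroup.closure Cl) :=
    (P.ψ.comp (P.pre Cl).subtype).codRestrict (Subgroup.closure Cl) fun a => a.2
  let kV : ↥Cl → ↥(P.pre Cl) := fun i =>
    ⟨P.kk e₀ i.1, P.lift_mem_pre (by rw [(P.kk_spec he (hCl.sub i.2)).1]; exact i.2)⟩
  have hval : ∀ s : Finset ↥Cl, (ψV (∏ i ∈ s, kV i) : Q) = cprod hCl.comm s := by
    intro s
    rw [map_prod, ← Finset.prod_map_toList, Subgroup.val_list_prod, List.map_map, cprod_toList hCl.comm]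
    congr 1
    exact List.map_congr_left fun i _ => (P.kk_spec he (hCl.sub i.2)).1
  have hψeq : ∀ s t : Finset ↥Cl, cprod hCl.comm s = cprod hCl.comm t →
      ψV (∏ i ∈ s, kV i) = ψV (∏ i ∈ t, kV i) := fun s t e => Subtype.ext (by rw [hval, hval, e])
  have hψeq' : ∀ s t : Finset ↥Cl, ψV (∏ i ∈ s, kV i) = ψV (∏ i ∈ t, kV i) →
      cprod hCl.comm s = cprod hCl.comm t := fun s t e => by rw [← hval, ← hval, e]
  let R : Subgroup (MulAut ↥(P.pre Cl)) :=
    { carrier := {σ | ∃ n : G, ∀ a : ↥(P.pre Cl),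
        (((σ a : ↥(P.pre Cl)) : ↥(Subgroup.centralizer ({d} : Set G))) : G) =
          n * ((a : ↥(Subgroup.centralizer ({d} : Set G))) : G) * n⁻¹}
      one_mem' := ⟨1, fun a => by simp⟩
      mul_mem' := by
        rintro σ τ ⟨n, hn⟩ ⟨m, hm⟩
        exact ⟨n * m, fun a => by rw [MulAut.mul_apply, hn, hm]; group⟩
      inv_mem' := by
        rintro σ ⟨n, hn⟩
        refine ⟨n⁻¹, fun a => ?_⟩
        conv_rhs => rw [← σ.apply_symm_apply a, hn]
        show (((σ.symm a : ↥(P.pre Cl)) : ↥(Subgroup.centralizer ({d} : Set G))) : G) = _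
        group }
  have haut : ∀ n : G, (∀ x ∈ P.preG Cl, n * x * n⁻¹ ∈ P.preG Cl) → ∃ σ ∈ R, ∀ a : ↥(P.pre Cl),
      (((σ a : ↥(P.pre Cl)) : ↥(Subgroup.centralizer ({d} : Set G))) : G) =
        n * ((a : ↥(Subgroup.centralizer ({d} : Set G))) : G) * n⁻¹ := by
    intro n hn
    choose f hf hf' using fun a : ↥(P.pre Cl) => hn _ ⟨a.1, a.2, rfl⟩
    change ∀ a : ↥(P.pre Cl), ((f a : ↥(Subgroup.centralizer ({d} : Set G))) : G) =
        n * ((a : ↥(Subgroup.centralizer ({d} : Set G))) : G) * n⁻¹ at hf'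
    let F : ↥(P.pre Cl) →* ↥(P.pre Cl) :=
      { toFun := fun a => ⟨f a, hf a⟩
        map_one' := Subtype.ext (Subtype.ext (by rw [hf']; simp))
        map_mul' := fun a b => Subtype.ext (Subtype.ext (by
          show ((f (a * b) : ↥(Subgroup.centralizer ({d} : Set G))) : G) = (f a : G) * (f b : G)
          rw [hf', hf', hf']; simp [mul_assoc])) }
    have hinj : Function.Injective F := fun a b e => by
      have e' : ((f a : ↥(Subgroup.centralizer ({d} : Set G))) : G) = (f b : G) :=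
        congrArg (fun v : ↥(P.pre Cl) => ((v : ↥(Subgroup.centralizer ({d} : Set G))) : G)) e
      rw [hf', hf'] at e'
      exact Subtype.ext (Subtype.ext (mul_left_cancel (mul_right_cancel e')))
    exact ⟨MulEquiv.ofBijective F (Finite.injective_iff_bijective.1 hinj), ⟨n, hf'⟩, hf'⟩
  have hCn : ∀ c : ↥(Subgroup.centralizer ({d} : Set G)), (∀ x ∈ P.pre Cl, c * x * c⁻¹ ∈ P.pre Cl) →
      ∀ x ∈ P.preG Cl, (c : G) * x * (c : G)⁻¹ ∈ P.preG Cl := by
    rintro c hc _ ⟨y, hy, rfl⟩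
    exact ⟨_, hc y hy, rfl⟩
  set dV : ↥(P.pre Cl) := ⟨P.z, P.z_mem_pre Cl⟩
  have hcfix : ∀ c : ↥(Subgroup.centralizer ({d} : Set G)), (c : G) * d * (c : G)⁻¹ = d := fun c => by
    rw [Subgroup.mem_centralizer_singleton_iff.1 c.2, mul_inv_cancel_right]
  let K : Config ↥Cl ↥(P.pre Cl) ↥(Subgroup.closure Cl) :=
    { Ω := {v | IsConj d ((v : ↥(Subgroup.centralizer ({d} : Set G))) : G)}
      R := R
      d := dV
      ψ := ψV
      k := kV
      card_pts := (Nat.card_coe_set_eq Cl).trans hCl.card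
      card_space := (P.card_pre hCl).trans (by norm_num)
      sq := fun v => Subtype.ext (hsq v v.2)
      d_ne := fun e => P.z_ne (congrArg Subtype.val e)
      ker_iff := fun v => by
        refine Subtype.ext_iff.trans ((P.ker_iff v.1).trans (or_congr ?_ ?_))
        · exact ⟨fun e => Subtype.ext e, fun e => congrArg Subtype.val e⟩
        · exact ⟨fun e => Subtype.ext e, fun e => congrArg Subtype.val e⟩
      ne_one := fun s h1 h3 e => cprod_ne_one hCl.comm h P.prim P.type22 hCl.sub h1 h3 (by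
        rw [← hval, e]; rfl)
      cls := fun v hv => by
        obtain ⟨s, h1, h3, e⟩ := exists_short_cprod hCl.comm h P.prim P.type22 hCl.sub hCl.card
          ((hCl.elementary h).2 (ψV v : Q) (ψV v).2) (fun e => hv (Subtype.ext e))
          fun w hw => (hCl.elementary h).1 (ψV v : Q) (ψV v).2 w (Subgroup.subset_closure hw)
        exact ⟨s, h1, h3, Subtype.ext (by rw [hval, e])⟩
      short := fun s t h1 h2 h3 h4 e =>
        cprod_short hCl.comm h P.prim P.type22 hCl.sub h1 h2 h3 h4 (hψeq' s t e)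
      mate := fun s hs => by
        obtain ⟨a, b, c, hab, hac, hbc, rfl⟩ := Finset.card_eq_three.1 hs
        obtain ⟨B, hB, ha, hb, hc⟩ := (sys22 hCl.comm h hCl.sub hCl.card).ex hab hac hbc
        have hsub : ({a, b, c} : Finset ↥Cl) ⊆ B := by simp [Finset.insert_subset_iff, ha, hb, hc]
        have hprod := hB.2
        rw [← Finset.union_sdiff_of_subset hsub, cprod_union hCl.comm Finset.disjoint_sdiff] at hprod
        refine ⟨B \ {a, b, c}, by rw [Finset.card_sdiff_of_subset hsub, hB.1, hs],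
          fun q => ?_, hψeq _ _ ?_⟩
        · have : a ∈ B \ {a, b, c} := by rw [q]; simp
          simp at this
        · rw [← mul_eq_one_iff_inv_eq.1 hprod]
          exact mul_eq_one_iff_inv_eq.1 (cprod_sq hCl.comm h hCl.sub _)
      mate_unique := fun s t t' hs ht ht' e1 e2 n1 n2 =>
        cprod_three hCl.comm h hCl.sub hs ht ht' (hψeq' t s e1) (hψeq' t' s e2) n1 n2
      d_mem := by
        show IsConj d (P.z : G)
        rw [hz]
      one_notMem := fun e => by
        obtain ⟨g, hg⟩ := isConj_iff.1 e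
        change g * d * g⁻¹ = 1 at hg
        refine P.z_ne (Subtype.ext ?_)
        rw [hz]
        have : d = g⁻¹ * 1 * g := by rw [← hg]; group
        simpa using this
      invariant := by
        rintro σ ⟨n, hn⟩ v hv
        exact hv.trans (isConj_iff.2 ⟨n, (hn v).symm⟩)
      trans := fun v hv => by
        obtain ⟨n, hn, e⟩ := P.transitive hz hCl (x := ((v : ↥(Subgroup.centralizer ({d} : Set G))) : G))
          ⟨v.1, v.2, rfl⟩ hv
        obtain ⟨σ, hσ, hσn⟩ := haut n fun x hx => (Subgroup.mem_normalizer_iff.1 hn x).1 hx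
        refine ⟨σ, hσ, Subtype.ext (Subtype.ext ?_)⟩
        rw [hσn]
        show n * (P.z : G) * n⁻¹ = _
        rw [hz, e]
      move := fun a b c a' b' c' hab hac hbc hab' hac' hbc' => by
        have hnb : ∀ {x y : ↥Cl}, x ≠ y → (y : Q) ∈ nb D (x : Q) := fun {x y} hxy =>
          ⟨hCl.sub y.2, fun q => hxy (Subtype.ext q.symm), hCl.comm x x.2 y y.2⟩
        obtain ⟨g, g1, g2, g3⟩ := triple_conj h (hCl.sub a'.2) (hnb hab') (hnb hac')
          (fun q => hbc' (Subtype.ext q)) (hCl.comm b' b'.2 c' c'.2) (hCl.sub a.2) (hnb hab) (hnb hac)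
          (fun q => hbc (Subtype.ext q)) (hCl.comm b b.2 c c.2)
        obtain ⟨n, hn, hn'⟩ := hCl.exists_move h hCl (L := {(a : Q), (b : Q), (c : Q)})
          (by simp [Set.insert_subset_iff, a.2, b.2, c.2]) g (by
            intro x hx
            rcases hx with rfl | rfl | rfl
            exacts [g1 ▸ a'.2, g2 ▸ b'.2, g3 ▸ c'.2])
        obtain ⟨m, rfl⟩ := P.surj n
        have hm := P.pre_conj hn
        obtain ⟨σ, hσ, hσn⟩ := haut (m : G) (hCn m fun x hx => by
          rw [← hm]; exact Subgroup.mem_map_of_mem _ hx)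
        have hk : ∀ x y : ↥Cl, P.ψ m * x * (P.ψ m)⁻¹ = y → σ (kV x) = kV y := fun x y e =>
          Subtype.ext (Subtype.ext (by
            rw [hσn]
            show _ = ((P.kk e₀ (y : Q) : ↥(Subgroup.centralizer ({d} : Set G))) : G)
            rw [← e, P.kk_conj he (hCl.sub x.2)]
            rfl))
        refine ⟨σ, hσ, Subtype.ext (Subtype.ext ?_), hk a a' ?_, hk b b' ?_, hk c c' ?_⟩
        · rw [hσn]
          show (m : G) * (P.z : G) * (m : G)⁻¹ = (P.z : G)
          rw [hz, hcfix]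
        · rw [hn' a (by simp), g1]
        · rw [hn' b (by simp), g2]
        · rw [hn' c (by simp), g3]
      stab := by
        rintro σ ⟨n, hn⟩ hd i
        have e : n * d * n⁻¹ = d := by
          have := hn dV
          rw [hd] at this
          change (P.z : G) = n * (P.z : G) * n⁻¹ at this
          rw [hz] at this
          exact this.symm
        set m : ↥(Subgroup.centralizer ({d} : Set G)) :=
          ⟨n, Subgroup.mem_centralizer_singleton_iff.2 (mul_inv_eq_iff_eq_mul.1 e)⟩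
        have hm : ∀ x ∈ P.pre Cl, m * x * m⁻¹ ∈ P.pre Cl := fun x hx => by
          rw [show m * x * m⁻¹ = ((σ ⟨x, hx⟩ : ↥(P.pre Cl)) : ↥(Subgroup.centralizer ({d} : Set G))) from
            Subtype.ext (hn ⟨x, hx⟩).symm]
          exact (σ ⟨x, hx⟩).2
        have him := P.image_of_normalizing hCl hm
        have hi : P.ψ m * i * (P.ψ m)⁻¹ ∈ Cl :=
          (Set.ext_iff.1 him _).1 (Set.mem_image_of_mem (fun x => P.ψ m * x * (P.ψ m)⁻¹) i.2)
        refine ⟨⟨_, hi⟩, Subtype.ext (Subtype.ext ?_)⟩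
        rw [hn]
        show _ = ((P.kk e₀ (P.ψ m * i * (P.ψ m)⁻¹) : ↥(Subgroup.centralizer ({d} : Set G))) : G)
        rw [P.kk_conj he (hCl.sub i.2)]
        rfl }
  have hcount : {x : G | x ∈ P.preG Cl ∧ IsConj d x}.ncard = K.Ω.ncard := by
    symm
    refine Set.ncard_congr (fun v _ => ((v : ↥(Subgroup.centralizer ({d} : Set G))) : G))
      (fun v hv => ⟨⟨v.1, v.2, rfl⟩, hv⟩) (fun v w _ _ e => Subtype.ext (Subtype.ext e)) ?_
    rintro x ⟨⟨y, hy, rfl⟩, hx⟩
    exact ⟨⟨y, hy⟩, hx, rfl⟩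
  rw [hcount]
  refine K.ncard_orbit ?_ ?_
  · obtain ⟨g, hgC, hgd⟩ := hnwc
    set x : ↥(Subgroup.centralizer ({d} : Set G)) := ⟨_, hgC⟩
    have hdd : d * d = 1 := by rw [← hz]; exact congrArg Subtype.val P.z_sq
    have hx2 : x * x = 1 := Subtype.ext (by
      show g * d * g⁻¹ * (g * d * g⁻¹) = 1
      rw [show g * d * g⁻¹ * (g * d * g⁻¹) = g * (d * d) * g⁻¹ by group, hdd, mul_one, mul_inv_cancel])
    obtain ⟨c, hc⟩ := P.invol_into hCl hx2
    refine ⟨⟨c * x * c⁻¹, hc⟩, isConj_iff.2 ⟨(c : G) * g, by simp [x, mul_assoc]⟩, fun e => hgd ?_⟩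
    refine (congrArg Subtype.val (show x = P.z from ?_)).trans hz
    have e' : c * x * c⁻¹ = P.z := congrArg Subtype.val e
    rw [← P.conj_z c⁻¹, ← e']
    group
  · intro H hdH hcard hinv
    refine P.no_complement hCl (H := H.map (P.pre Cl).subtype) ⟨?_, ?_, ?_, ?_⟩
    · exact Subgroup.map_subtype_le H
    · rintro ⟨y, hy, e⟩
      exact hdH (show dV ∈ H from (show y = dV from Subtype.ext e) ▸ hy)
    · rw [Subgroup.card_map_of_injective Subtype.val_injective, hcard]; norm_num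
    · rintro c hc _ ⟨y, hy, rfl⟩
      obtain ⟨σ, hσ, hσn⟩ := haut (c : G) (hCn c hc)
      refine ⟨σ y, hinv σ hσ (Subtype.ext (Subtype.ext ?_)) y hy, Subtype.ext ?_⟩
      · show (((σ dV : ↥(P.pre Cl)) : ↥(Subgroup.centralizer ({d} : Set G))) : G) = (P.z : G)
        rw [hσn]
        show (c : G) * (P.z : G) * (c : G)⁻¹ = (P.z : G)
        rw [hz, hcfix]
      · exact hσn y

end Cover

end CfsgLib.DoubleM22
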